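import Cfsg.Agent.DihProd.Local

/-!
A Sylow 2-subgroup with two dihedral direct factors: coordinates, changing the generators of a
factor by central elements of the other one, and the criterion for a factor to be strongly closed.
-/

set_option autoImplicit false
set_option linter.unusedSectionVars false
set_option linter.deprecated false
set_option linter.style.haveILetI false
set_option linter.unusedVariables false

namespace CfsgLib.DihProd

open Subgroup CfsgLib.DihFour Pointwise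

variable {G : Type*} [Group G] [Finite G]

/-- A factorisation of `S` into two dihedral groups with chosen generators. -/
structure Fact2 (S : Sylow 2 G) where
  /-- the first factor -/
  D₁ : Subgroup G
  /-- the second factor -/
  D₂ : Subgroup G
  hp : Cfsg.IsInternalDirectProduct D₁ D₂ (S : Subgroup G)
  /-- generators of the first factor -/
  A : Data D₁
  /-- generators of the second factor -/
  B : Data D₂

variable {S : Sylow 2 G}

namespace Fact2

variable (P : Fact2 S)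

theorem le₁ {a : G} (ha : a ∈ P.D₁) : a ∈ (S : Subgroup G) := P.hp.1 ha

theorem le₂ {b : G} (hb : b ∈ P.D₂) : b ∈ (S : Subgroup G) := P.hp.2.1 hb

theorem comm {a b : G} (ha : a ∈ P.D₁) (hb : b ∈ P.D₂) : Commute a b := P.hp.2.2.1 a ha b hb

theorem eq_one {x : G} (h1 : x ∈ P.D₁) (h2 : x ∈ P.D₂) : x = 1 :=
  mem_bot.1 (P.hp.2.2.2.1.le ⟨h1, h2⟩)

/-- The other order of the factors. -/
def swap : Fact2 S where
  D₁ := P.D₂
  D₂ := P.D₁
  hp := ⟨P.hp.2.1, P.hp.1, fun b hb a ha => (P.hp.2.2.1 a ha b hb).symm,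
    by rw [inf_comm]; exact P.hp.2.2.2.1, by rw [sup_comm]; exact P.hp.2.2.2.2⟩
  A := P.B
  B := P.A

theorem split {x : G} (hx : x ∈ (S : Subgroup G)) : ∃ a ∈ P.D₁, ∃ b ∈ P.D₂, x = a * b := by
  rw [← P.hp.2.2.2.2] at hx
  have hn : P.D₁ ≤ normalizer (P.D₂ : Set G) := by
    intro a ha
    refine mem_normalizer_iff.2 fun b => ⟨fun hb => ?_, fun hb => ?_⟩
    · rwa [(P.comm ha hb).eq, mul_inv_cancel_right]
    · have h1 := (P.comm (inv_mem ha) hb).eq
      have h2 : b = a * b * a⁻¹ := by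
        calc b = a⁻¹ * (a * b * a⁻¹) * a := by group
          _ = (a * b * a⁻¹) * a⁻¹ * a := by rw [h1]
          _ = _ := by group
      rwa [h2]
  have hx' : x ∈ ((P.D₁ ⊔ P.D₂ : Subgroup G) : Set G) := hx
  rw [coe_mul_of_left_le_normalizer_right P.D₁ P.D₂ hn] at hx'
  obtain ⟨a, ha, b, hb, rfl⟩ := Set.mem_mul.1 hx'
  exact ⟨a, ha, b, hb, rfl⟩

theorem uniq {a a' b b' : G} (ha : a ∈ P.D₁) (ha' : a' ∈ P.D₁) (hb : b ∈ P.D₂) (hb' : b' ∈ P.D₂)
    (h : a * b = a' * b') : a = a' ∧ b = b' := by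
  have h1 : a'⁻¹ * a = b' * b⁻¹ := by
    calc a'⁻¹ * a = a'⁻¹ * (a * b) * b⁻¹ := by group
      _ = a'⁻¹ * (a' * b') * b⁻¹ := by rw [h]
      _ = _ := by group
  have h2 : a'⁻¹ * a = 1 :=
    P.eq_one (mul_mem (inv_mem ha') ha) (h1 ▸ mul_mem hb' (inv_mem hb))
  have e : a' = a := inv_mul_eq_one.1 h2
  subst e
  exact ⟨rfl, mul_left_cancel h⟩

theorem mul_mul {a a' b b' : G} (ha' : a' ∈ P.D₁) (hb : b ∈ P.D₂) :
    a * b * (a' * b') = a * a' * (b * b') := by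
  rw [mul_assoc a b, ← mul_assoc b a', (P.comm ha' hb).symm.eq]
  group

theorem mem {a b : G} (ha : a ∈ P.D₁) (hb : b ∈ P.D₂) : a * b ∈ (S : Subgroup G) :=
  mul_mem (P.le₁ ha) (P.le₂ hb)

theorem comm_iff {a a' b b' : G} (ha : a ∈ P.D₁) (ha' : a' ∈ P.D₁) (hb : b ∈ P.D₂)
    (hb' : b' ∈ P.D₂) : Commute (a * b) (a' * b') ↔ Commute a a' ∧ Commute b b' := by
  constructor
  · intro h
    have h1 := h.eq
    rw [P.mul_mul ha' hb, P.mul_mul ha hb'] at h1
    exact P.uniq (mul_mem ha ha') (mul_mem ha' ha) (mul_mem hb hb') (mul_mem hb' hb) h1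
  · rintro ⟨h1, h2⟩
    exact (h1.mul_right (P.comm ha hb')).mul_left ((P.comm ha' hb).symm.mul_right h2)

theorem sq_eq_one {a b : G} (ha : a ∈ P.D₁) (hb : b ∈ P.D₂) (h : a * b * (a * b) = 1) :
    a * a = 1 ∧ b * b = 1 := by
  rw [P.mul_mul ha hb] at h
  exact P.uniq (mul_mem ha ha) (one_mem _) (mul_mem hb hb) (one_mem _) (by rw [h, mul_one])

theorem isCentralIn {a b : G} (ha : a ∈ P.D₁) (hb : b ∈ P.D₂) (hac : ∀ q ∈ P.D₁, Commute q a)
    (hbc : ∀ q ∈ P.D₂, Commute q b) : IsCentralIn S (a * b) := by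
  refine ⟨P.mem ha hb, fun q hq => ?_⟩
  obtain ⟨c, hc, d, hd, rfl⟩ := P.split hq
  exact (P.comm_iff hc ha hd hb).2 ⟨hac c hc, hbc d hd⟩

theorem central_split {a b : G} (ha : a ∈ P.D₁) (hb : b ∈ P.D₂) (h : IsCentralIn S (a * b)) :
    (∀ q ∈ P.D₁, Commute q a) ∧ ∀ q ∈ P.D₂, Commute q b :=
  ⟨fun q hq => ((P.comm_iff hq ha (one_mem _) hb).1 (h.2 _ (P.mem hq (one_mem _)))).1,
    fun q hq => ((P.comm_iff (one_mem _) ha hq hb).1 (h.2 _ (P.mem (one_mem _) hq))).2⟩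

theorem z₁_comm (q : G) (hq : q ∈ P.D₁) : Commute q P.A.z := (P.A.z_comm hq).symm

theorem central_z₁ : IsCentralIn S P.A.z := by
  simpa using P.isCentralIn P.A.z_mem (one_mem _) P.z₁_comm fun q _ => Commute.one_right q

theorem central_z₂ : IsCentralIn S P.B.z := P.swap.central_z₁

theorem comm_z {q : G} (hq : q ∈ (S : Subgroup G)) : Commute q P.A.z := P.central_z₁.2 q hq

theorem z_ne_z : P.A.z ≠ P.B.z := fun h => P.A.z_ne (P.eq_one P.A.z_mem (h ▸ P.B.z_mem))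

/-- In the first factor all reflections are conjugate to the central involution. -/
def Refl : Prop := ∀ i : ℤ, IsConj (P.A.r ^ i * P.A.s) P.A.z

theorem conj_parity (i : ℤ) {e : G} (he : e ∈ P.D₂) :
    ∃ j : ℤ, (j = 0 ∨ j = 1) ∧ ∃ l : ℤ, i = j + 2 * l ∧
      P.A.r ^ l * (P.A.r ^ j * P.A.s * e) * (P.A.r ^ l)⁻¹ = P.A.r ^ i * P.A.s * e := by
  have key : ∀ j l : ℤ, i = j + 2 * l →
      P.A.r ^ l * (P.A.r ^ j * P.A.s * e) * (P.A.r ^ l)⁻¹ = P.A.r ^ i * P.A.s * e := fun j l h => by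
    rw [DihProd.conj_mul, P.A.rot_conj_refl, ← h, (P.comm (zpow_mem P.A.rS l) he).eq,
      mul_inv_cancel_right]
  rcases Int.even_or_odd' i with ⟨l, rfl | rfl⟩
  · exact ⟨0, Or.inl rfl, l, by ring, key 0 l (by ring)⟩
  · exact ⟨1, Or.inr rfl, l, by ring, key 1 l (by ring)⟩

theorem refl_of_two (h : ∀ j : ℤ, j = 0 ∨ j = 1 → IsConj (P.A.r ^ j * P.A.s) P.A.z) : P.Refl := by
  intro i
  obtain ⟨j, hj, l, -, hl⟩ := P.conj_parity i (one_mem _)
  simp only [mul_one] at hl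
  exact (isConj_iff.2 ⟨_, hl⟩).symm.trans (h j hj)

/-- Two reflections of one class differ by an even power of the rotation. -/
theorem parity {i j : ℤ} (h : P.A.r ^ i * P.A.s = P.A.r ^ j * P.A.s) : 2 ∣ i - j := by
  have h1 := mul_right_cancel h
  rw [← mul_inv_eq_one, ← zpow_neg, ← zpow_add, P.A.rpow_eq_one_iff, ← sub_eq_add_neg] at h1
  exact (dvd_mul_right 2 _).trans h1

/-- Replace the two generating reflections of the first factor by their products with central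
elements of the second one. -/
theorem exists_change (hA : 2 ∣ P.A.h) {e₀ e₁ : G} (he₀ : e₀ ∈ P.D₂) (he₁ : e₁ ∈ P.D₂)
    (hc₀ : ∀ q ∈ P.D₂, Commute q e₀) (hc₁ : ∀ q ∈ P.D₂, Commute q e₁) (h₀ : e₀ * e₀ = 1)
    (h₁ : e₁ * e₁ = 1) (hg₀ : IsConj (P.A.s * e₀) P.A.z)
    (hg₁ : IsConj (P.A.r * P.A.s * e₁) P.A.z) :
    ∃ Q : Fact2 S, Q.Refl ∧ Q.D₂ = P.D₂ ∧ Q.A.h = P.A.h ∧ Q.B.h = P.B.h ∧ Q.B.z = P.B.z := by
  set r := P.A.r with hr
  set s := P.A.s with hs
  set e := e₁ * e₀ with he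
  set r' := r * e with hr'
  set s' := s * e₀ with hs'
  have heD : e ∈ P.D₂ := mul_mem he₁ he₀
  have he2 : e * e = 1 := by
    rw [he, ((hc₀ e₁ he₁).symm).mul_mul_mul_comm, h₁, h₀, one_mul]
  have hre : Commute r e := P.comm P.A.rS heD
  have hrpow : ∀ i : ℤ, r' ^ i = r ^ i * e ^ i := fun i => hre.mul_zpow i
  have hepow : ∀ i : ℤ, 2 ∣ i → e ^ i = 1 := by
    rintro i ⟨c, rfl⟩
    rw [zpow_mul, zpow_two, he2, one_zpow]
  have hs2 : s' * s' = 1 := by
    rw [hs', P.mul_mul P.A.sS he₀, P.A.s_sq, h₀, one_mul]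
  have hs'1 : s' ≠ 1 := fun h => P.A.refl_ne_one 0 (by
    rw [zpow_zero, one_mul]; exact (P.uniq P.A.sS (one_mem _) he₀ (one_mem _) (by rw [← hs, ← hs', h, mul_one])).1)
  have hsr : s' * r' * s'⁻¹ = r'⁻¹ := by
    rw [inv_eq_of_mul_eq_one_right hs2, hs', hr', P.mul_mul P.A.rS he₀,
      P.mul_mul P.A.sS (mul_mem he₀ heD), mul_inv_rev, inv_eq_of_mul_eq_one_right he2,
      ((P.comm (inv_mem P.A.rS) heD).symm).eq]
    have h1 : s * r * s = r⁻¹ := by
      have := P.A.hsr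
      rwa [inv_eq_of_mul_eq_one_right P.A.s_sq] at this
    have h2 : e₀ * e * e₀ = e := by
      rw [← (hc₀ e heD).eq, mul_assoc, h₀, mul_one]
    rw [h1, h2]
  have hord : orderOf r' = 2 * P.A.h := by
    refine orderOf_eq_iff (by have := P.A.h_pos; omega) |>.2 ⟨?_, ?_⟩
    · have := hrpow ((2 * P.A.h : ℕ) : ℤ)
      rw [zpow_natCast, zpow_natCast, hepow _ (by exact_mod_cast dvd_mul_right 2 P.A.h), mul_one,
        ← P.A.hr, pow_orderOf_eq_one] at this
      rw [← P.A.hr]; exact this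
    · intro m hm hm0 h
      have h1 := hrpow (m : ℤ)
      rw [zpow_natCast, h, zpow_natCast] at h1
      have h2 := (P.uniq (pow_mem P.A.rS m) (one_mem _) (zpow_mem heD (m : ℤ)) (one_mem _)
        (by rw [mul_one]; exact h1.symm)).1
      have h3 := Nat.le_of_dvd hm0 (orderOf_dvd_of_pow_eq_one h2)
      rw [P.A.hr] at h3
      omega
  have hso : orderOf s' = 2 := CfsgLib.Invol.orderOf_eq_two hs2 hs'1
  set t' := r' * s' with ht'
  have ht2 : t' * t' = 1 := by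
    rw [ht', mul_assoc, ← mul_assoc s', show s' * r' * s' = r'⁻¹ by
      rwa [inv_eq_of_mul_eq_one_right hs2] at hsr, mul_inv_cancel]
  have hst : ∀ i : ℤ, r' ^ i * s' = r ^ i * s * (e ^ i * e₀) := fun i => by
    rw [hrpow, hs', P.mul_mul P.A.sS (zpow_mem heD i)]
  have ht1 : t' ≠ 1 := fun h => P.A.refl_ne_one 1 (by
    have h1 := hst 1
    rw [zpow_one, ← ht', h] at h1
    exact (P.uniq (refl_mem P.A 1) (one_mem _) (mul_mem (zpow_mem heD 1) he₀) (one_mem _)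
      (by rw [mul_one]; simpa using h1.symm)).1)
  have hto : orderOf t' = 2 := CfsgLib.Invol.orderOf_eq_two ht2 ht1
  have hne : s' ≠ t' := fun h => by
    have h1 := hst 1
    rw [zpow_one, ← ht', ← h, hs'] at h1
    have h2 := (P.uniq P.A.sS (refl_mem P.A 1) he₀ (mul_mem (zpow_mem heD 1) he₀) h1).1
    rw [zpow_one] at h2
    have h3 := congrArg orderOf (right_eq_mul.1 h2)
    rw [P.A.hr, orderOf_one] at h3
    omega
  have hprod : s' * t' = r'⁻¹ := by
    rw [ht', ← mul_assoc, ← hsr, inv_eq_of_mul_eq_one_right hs2]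
  set D := closure ({s', t'} : Set G) with hD
  have hsD : s' ∈ D := subset_closure (Or.inl rfl)
  have hrD : r' ∈ D := by
    have h1 : r' = t' * s' := by rw [ht', mul_assoc, hs2, mul_one]
    rw [h1]; exact mul_mem (subset_closure (Or.inr rfl)) hsD
  have hcases : ∀ d ∈ D, ∃ i : ℤ, d = r' ^ i ∨ d = r' ^ i * s' := by
    intro d hd
    rcases (CfsgLib.Invol.mem_closure_pair_iff hso hto).1 hd with ⟨k, rfl⟩ | ⟨k, rfl⟩
    · exact ⟨-k, Or.inl (by rw [hprod, inv_zpow, zpow_neg])⟩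
    · refine ⟨k, Or.inr ?_⟩
      rw [hprod, ← hsr, conj_zpow, inv_eq_of_mul_eq_one_right hs2, mul_assoc s' (r' ^ k),
        ← mul_assoc s' s', hs2, one_mul]
  have hDS : D ≤ (S : Subgroup G) := (closure_le _).2 (by
    rintro x (rfl | rfl)
    · exact P.mem P.A.sS he₀
    · exact mul_mem (P.mem P.A.rS heD) (P.mem P.A.sS he₀))
  have hcomp : ∀ {a b : G}, a ∈ P.D₁ → b ∈ P.D₂ → (∀ q ∈ P.D₂, Commute q b) →
      ∀ q ∈ P.D₂, a * b * q = q * (a * b) := fun ha _ hbc q hq =>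
    ((P.comm ha hq).mul_left (hbc q hq).symm).eq
  have hec : ∀ q ∈ P.D₂, Commute q e := fun q hq => (hc₁ q hq).mul_right (hc₀ q hq)
  have hp : Cfsg.IsInternalDirectProduct D P.D₂ (S : Subgroup G) := by
    refine ⟨hDS, P.hp.2.1, ?_, ?_, le_antisymm (sup_le hDS P.hp.2.1) ?_⟩
    · intro d hd q hq
      have hr'q : Commute r' q := hcomp P.A.rS heD hec q hq
      have hs'q : Commute s' q := hcomp P.A.sS he₀ hc₀ q hq
      obtain ⟨i, rfl | rfl⟩ := hcases d hd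
      · exact (hr'q.zpow_left i).eq
      · exact ((hr'q.zpow_left i).mul_left hs'q).eq
    · refine le_bot_iff.1 fun x hx => ?_
      rw [mem_bot]
      obtain ⟨i, rfl | rfl⟩ := hcases x hx.1
      · have h1 := (P.uniq (zpow_mem P.A.rS i) (one_mem _) (zpow_mem heD i) hx.2
          (by rw [one_mul, ← hrpow])).1
        rw [hrpow, h1, hepow i ((dvd_mul_right 2 _).trans (P.A.rpow_eq_one_iff.1 h1)), mul_one]
      · exact absurd (P.uniq (refl_mem P.A i) (one_mem _) (mul_mem (zpow_mem heD i) he₀) hx.2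
          (by rw [one_mul]; exact (hst i).symm)).1 (P.A.refl_ne_one i)
    · intro x hx
      obtain ⟨a, ha, b, hb, rfl⟩ := P.split hx
      refine mul_mem ?_ (mem_sup_right hb)
      have hsmem : s ∈ D ⊔ P.D₂ := by
        have h1 := mul_mem (mem_sup_left (T := P.D₂) hsD) (mem_sup_right (S := D) (inv_mem he₀))
        rwa [hs', mul_inv_cancel_right] at h1
      have hrmem : r ∈ D ⊔ P.D₂ := by
        have h1 := mul_mem (mem_sup_left (T := P.D₂) hrD) (mem_sup_right (S := D) (inv_mem heD))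
        rwa [hr', mul_inv_cancel_right] at h1
      obtain ⟨i, rfl | rfl⟩ := P.A.cases a ha
      · exact zpow_mem hrmem i
      · exact mul_mem (zpow_mem hrmem i) hsmem
  let A' : Data D :=
    { h := P.A.h
      k := P.A.k
      r := r'
      s := s'
      hh := P.A.hh
      hr := hord
      hs := hso
      hsr := hsr
      rS := hrD
      sS := hsD
      cases := hcases
      card_eq := by
        obtain ⟨eq⟩ := CfsgLib.Invol.nonempty_dihedral_equiv hso hto hne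
        rw [Nat.card_congr eq.toEquiv, DihedralGroup.nat_card, hprod, orderOf_inv, hord]
        ring
      s_not := fun h => by
        obtain ⟨i, hi⟩ := mem_zpowers_iff.1 h
        rw [hrpow, hs'] at hi
        exact P.A.s_not ⟨i, (P.uniq (zpow_mem P.A.rS i) P.A.sS (zpow_mem heD i) he₀ hi).1⟩ }
  have hz : A'.z = P.A.z := by
    show r' ^ (P.A.h : ℤ) = r ^ (P.A.h : ℤ)
    rw [hrpow, hepow _ (by exact_mod_cast hA), mul_one]
  refine ⟨⟨D, P.D₂, hp, A', P.B⟩, ?_, rfl, rfl, rfl, rfl⟩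
  refine Fact2.refl_of_two _ fun j hj => ?_
  show IsConj (r' ^ j * s') A'.z
  rw [hz]
  rcases hj with rfl | rfl
  · rw [zpow_zero, one_mul]; exact hg₀
  · rw [hst, zpow_one, zpow_one, he, mul_assoc e₁, h₀, mul_one]; exact hg₁

/-- A factor containing all conjugates in `S` of its involutions is strongly closed. -/
theorem stronglyClosed₁
    (h : ∀ a ∈ P.D₁, a * a = 1 → ∀ g : G, g * a * g⁻¹ ∈ (S : Subgroup G) → g * a * g⁻¹ ∈ P.D₁) :
    Cfsg.IsStronglyClosed P.D₁ (S : Subgroup G) := by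
  haveI : Fact (Nat.Prime 2) := ⟨Nat.prime_two⟩
  refine ⟨P.hp.1, fun x hx g hg => ?_⟩
  induction hn : orderOf x using Nat.strong_induction_on generalizing x g with
  | _ n ih =>
  by_cases h2 : x * x = 1
  · exact h x hx h2 g hg
  obtain ⟨i, rfl⟩ : ∃ i : ℤ, x = P.A.r ^ i := by
    obtain ⟨i, h1 | h1⟩ := P.A.cases x hx
    · exact ⟨i, h1⟩
    · exact absurd (h1 ▸ P.A.refl_sq i) h2
  set x := P.A.r ^ i with hxdef
  obtain ⟨a, ha, b, hb, hab⟩ := P.split hg
  -- the square lies in the first factor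
  have hlt : orderOf (x * x) < n := by
    obtain ⟨k, hk⟩ : ∃ k, orderOf x = 2 ^ k := by
      obtain ⟨k, hk⟩ := S.isPGroup' ⟨x, P.le₁ hx⟩
      obtain ⟨j, -, hj⟩ := (Nat.dvd_prime_pow Nat.prime_two).1
        (orderOf_dvd_of_pow_eq_one (show x ^ 2 ^ k = 1 by simpa using congrArg Subtype.val hk))
      exact ⟨j, hj⟩
    rcases k with _ | k
    · exact absurd (by rw [orderOf_eq_one_iff.1 hk, mul_one]) h2
    have h3 : (x * x) ^ 2 ^ k = 1 := by
      rw [← sq, ← pow_mul, ← pow_succ', ← hk, pow_orderOf_eq_one]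
    have h4 := Nat.le_of_dvd (Nat.two_pow_pos k) (orderOf_dvd_of_pow_eq_one h3)
    rw [← hn, hk, pow_succ]
    have := Nat.two_pow_pos k
    omega
  have hsq : g * (x * x) * g⁻¹ = a * a * (b * b) := by
    rw [DihProd.conj_mul, hab, P.mul_mul ha hb]
  have hbb : b * b = 1 := by
    have h1 : g * (x * x) * g⁻¹ ∈ P.D₁ := ih _ hlt (x * x) (mul_mem hx hx) g
      (by rw [hsq]; exact P.mem (mul_mem ha ha) (mul_mem hb hb)) rfl
    rw [hsq, mul_mem_cancel_left (mul_mem ha ha)] at h1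
    exact P.eq_one h1 (mul_mem hb hb)
  have haa : a * a ≠ 1 := fun h1 => h2 (by
    rw [hbb, mul_one, h1] at hsq
    exact conj_eq_one_iff.1 hsq)
  obtain ⟨j, rfl⟩ : ∃ j : ℤ, a = P.A.r ^ j := by
    obtain ⟨j, h1 | h1⟩ := P.A.cases a ha
    · exact ⟨j, h1⟩
    · exact absurd (h1 ▸ P.A.refl_sq j) haa
  set y := P.A.r ^ j * b with hy
  -- `S` normalizes the group generated by `x`, the first factor that of `y`
  set N := normalizer (zpowers x : Set G)
  have hrot : ∀ (l : ℤ) {c q : G}, q ∈ P.D₁ → c ∈ P.D₂ → c⁻¹ = c →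
      q * (P.A.r ^ l * c) * q⁻¹ ∈ zpowers (P.A.r ^ l * c) := by
    intro l c q hq hc hci
    have hqc : q * c * q⁻¹ = c := by rw [(P.comm hq hc).eq, mul_inv_cancel_right]
    rw [DihProd.conj_mul, hqc]
    obtain ⟨m, rfl | rfl⟩ := P.A.cases q hq
    · rw [← zpow_neg, ← zpow_add, ← zpow_add, show m + l + -m = l by ring]
      exact mem_zpowers _
    · rw [show P.A.r ^ m * P.A.s * P.A.r ^ l * (P.A.r ^ m * P.A.s)⁻¹ =
        P.A.r ^ m * (P.A.s * P.A.r ^ l * P.A.s⁻¹) * (P.A.r ^ m)⁻¹ by group, P.A.s_rpow,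
        ← zpow_neg (P.A.r) m, ← zpow_add, ← zpow_add, show m + -l + -m = -l by ring]
      have h1 : P.A.r ^ (-l) * c = (P.A.r ^ l * c)⁻¹ := by
        rw [mul_inv_rev, hci, zpow_neg, ((P.comm (inv_mem (zpow_mem P.A.rS l)) hc).symm).eq]
      rw [h1]
      exact inv_mem (mem_zpowers _)
  have hSN : (S : Subgroup G) ≤ N := by
    have key : ∀ q ∈ (S : Subgroup G), ∀ z ∈ zpowers x, q * z * q⁻¹ ∈ zpowers x := by
      intro q hq z hz
      obtain ⟨m, rfl⟩ := mem_zpowers_iff.1 hz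
      obtain ⟨c, hc, d, hd, rfl⟩ := P.split hq
      rw [← conj_zpow]
      refine zpow_mem ?_ m
      have h1 : d * x * d⁻¹ = x := by rw [((P.comm hx hd).symm).eq, mul_inv_cancel_right]
      rw [show c * d * x * (c * d)⁻¹ = c * (d * x * d⁻¹) * c⁻¹ by group, h1]
      simpa [hxdef] using hrot i hc (one_mem P.D₂) inv_one
    refine fun q hq => mem_normalizer_iff.2 fun z => ⟨key q hq z, fun h1 => ?_⟩
    have h3 := key q⁻¹ (inv_mem hq) _ h1
    rwa [show q⁻¹ * (q * z * q⁻¹) * q⁻¹⁻¹ = z by group] at h3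
  have hyx : g⁻¹ * y * g = x := by rw [← hab]; group
  have hUN : P.D₁.map (MulAut.conj g⁻¹).toMonoidHom ≤ N := by
    rintro _ ⟨q, hq, rfl⟩
    have key : ∀ q ∈ P.D₁, ∀ z ∈ zpowers x, (g⁻¹ * q * g) * z * (g⁻¹ * q * g)⁻¹ ∈ zpowers x := by
      intro q hq z hz
      obtain ⟨m, rfl⟩ := mem_zpowers_iff.1 hz
      rw [← conj_zpow]
      refine zpow_mem ?_ m
      obtain ⟨l, hl⟩ := mem_zpowers_iff.1 (hrot j hq hb (inv_eq_of_mul_eq_one_right hbb))
      refine mem_zpowers_iff.2 ⟨l, ?_⟩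
      rw [← hy] at hl
      calc x ^ l = g⁻¹ * y ^ l * g := by
            rw [← hyx, show g⁻¹ * y * g = g⁻¹ * y * g⁻¹⁻¹ by rw [inv_inv], conj_zpow, inv_inv]
        _ = g⁻¹ * (q * y * q⁻¹) * g := by rw [hl]
        _ = _ := by rw [← hyx]; group
    show g⁻¹ * q * g⁻¹⁻¹ ∈ N
    rw [inv_inv]
    refine mem_normalizer_iff.2 fun z => ⟨key q hq z, fun h1 => ?_⟩
    have h3 := key q⁻¹ (inv_mem hq) _ h1
    convert h3 using 1
    group
  obtain ⟨c, hc, hcU⟩ := CfsgLib.Fusion.exists_conj_le_of_sylow_relIndex hSN S.2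
    (fun h => S.not_dvd_index (h.trans (relIndex_dvd_index_of_le hSN)))
    ((S.2.to_le P.hp.1).map _) hUN
  have hmap : ∀ q ∈ P.D₁, c * g⁻¹ * q * (c * g⁻¹)⁻¹ ∈ (S : Subgroup G) := fun q hq => hcU (by
    rw [CfsgLib.SZ.mem_conj_smul]
    exact ⟨q, hq, by simp [mul_assoc]⟩)
  have hmap1 : ∀ q ∈ P.D₁, c * g⁻¹ * q * (c * g⁻¹)⁻¹ ∈ P.D₁ := fun q hq =>
    map_mem_of_refl P.A (fun l => h _ (refl_mem P.A l) (P.A.refl_sq l) _ (hmap _ (refl_mem P.A l))) hq
  have hy1 : c * g⁻¹ * y * (c * g⁻¹)⁻¹ ∈ P.D₁ := by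
    rw [show c * g⁻¹ * y * (c * g⁻¹)⁻¹ = c * (g⁻¹ * y * g) * c⁻¹ by group, hyx]
    exact zpowers_le.2 hx ((mem_normalizer_iff.1 hc x).1 (mem_zpowers x))
  have hb1 : c * g⁻¹ * b * (c * g⁻¹)⁻¹ ∈ P.D₁ := by
    have h1 := mul_mem (inv_mem (hmap1 _ ha)) hy1
    rwa [hy, DihProd.conj_mul, inv_mul_cancel_left] at h1
  have hb2 : b ∈ P.D₁ := by
    have h1 := h _ hb1 (conj_sq hbb) (c * g⁻¹)⁻¹
    rw [show (c * g⁻¹)⁻¹ * (c * g⁻¹ * b * (c * g⁻¹)⁻¹) * (c * g⁻¹)⁻¹⁻¹ = b by group] at h1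
    exact h1 (P.le₂ hb)
  rw [hab, hy, P.eq_one hb2 hb, mul_one]
  exact ha

end Fact2

end CfsgLib.DihProd
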