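import Cfsg.Agent.DihProd.Transfer

/-!
Both dihedral factors of order at least eight.
-/

set_option autoImplicit false
set_option linter.unusedSectionVars false
set_option linter.deprecated false
set_option linter.style.haveILetI false
set_option linter.unusedVariables false

namespace CfsgLib.DihProd

open Subgroup CfsgLib.DihFour

variable {G : Type*} [Group G] [Finite G] {S : Sylow 2 G}

namespace Fact2

variable (P : Fact2 S)

/-- The three central involutions. -/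
def IsC (c : G) : Prop := c = P.A.z ∨ c = P.B.z ∨ c = P.A.z * P.B.z

/-- Two square roots of `c` in `S` which do not commute. -/
def HasPair (S : Sylow 2 G) (c : G) : Prop :=
  ∃ w ∈ (S : Subgroup G), ∃ w' ∈ (S : Subgroup G), w * w = c ∧ w' * w' = c ∧ ¬ Commute w w'

theorem isC_central {c : G} (hc : P.IsC c) : IsCentralIn S c := by
  rcases hc with rfl | rfl | rfl
  exacts [P.central_z₁, P.central_z₂, P.central_z₁.mul S P.central_z₂]

theorem hasPair_z₁ (hA : 2 ∣ P.A.h) (hB : 2 ∣ P.B.h) : HasPair S P.A.z := by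
  obtain ⟨l, -, hl⟩ := exists_root P.A hA
  have hr := zpow_mem P.A.rS l
  have hs : P.B.r * P.B.s ∈ P.D₂ := mul_mem P.B.rS P.B.sS
  refine ⟨_, P.mem hr P.B.sS, _, P.mem hr hs, ?_, ?_, fun h =>
    refl_pair_not_comm P.B hB ((P.comm_iff hr hr P.B.sS hs).1 h).2⟩
  · rw [P.mul_mul hr P.B.sS, hl, P.B.s_sq, mul_one]
  · rw [P.mul_mul hr hs, hl, show P.B.r * P.B.s * (P.B.r * P.B.s) = 1 by simpa using P.B.refl_sq 1,
      mul_one]

theorem not_hasPair : ¬ HasPair S (P.A.z * P.B.z) := by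
  rintro ⟨w, hw, w', hw', h, h', hc⟩
  have key : ∀ w ∈ (S : Subgroup G), w * w = P.A.z * P.B.z →
      ∃ i j : ℤ, w = P.A.r ^ i * P.B.r ^ j := by
    intro w hw h
    obtain ⟨a, ha, b, hb, rfl⟩ := P.split hw
    rw [P.mul_mul ha hb] at h
    obtain ⟨h1, h2⟩ := P.uniq (mul_mem ha ha) P.A.z_mem (mul_mem hb hb) P.B.z_mem h
    obtain ⟨i, rfl | rfl⟩ := P.A.cases a ha
    · obtain ⟨j, rfl | rfl⟩ := P.B.cases b hb
      · exact ⟨i, j, rfl⟩
      · exact absurd (h2.symm.trans (P.B.refl_sq j)) P.B.z_ne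
    · exact absurd (h1.symm.trans (P.A.refl_sq i)) P.A.z_ne
  obtain ⟨i, j, rfl⟩ := key w hw h
  obtain ⟨i', j', rfl⟩ := key w' hw' h'
  exact hc ((P.comm_iff (zpow_mem P.A.rS i) (zpow_mem P.A.rS i') (zpow_mem P.B.rS j)
    (zpow_mem P.B.rS j')).2 ⟨Commute.zpow_zpow_self P.A.r i i', Commute.zpow_zpow_self P.B.r j j'⟩)

theorem distinct (hA : 2 ∣ P.A.h) (hB : 2 ∣ P.B.h) {c c' : G} (hc : P.IsC c) (hc' : P.IsC c')
    (h : IsConj c c') : c = c' := by
  have hpz₂ : HasPair S P.B.z := P.swap.hasPair_z₁ hB hA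
  have key : ∀ {x y : G} (n : G), n ∈ normalizer ((S : Subgroup G) : Set G) → n * x * n⁻¹ = y →
      HasPair S x → HasPair S y := by
    rintro x y n hn rfl ⟨w, hw, w', hw', h1, h2, h3⟩
    refine ⟨_, normalizer_mem S hn hw, _, normalizer_mem S hn hw', by rw [← DihProd.conj_mul, h1],
      by rw [← DihProd.conj_mul, h2], fun h4 => h3 ?_⟩
    have h5 := commute_conj n⁻¹ h4
    rwa [show n⁻¹ * (n * w * n⁻¹) * n⁻¹⁻¹ = w by group,
      show n⁻¹ * (n * w' * n⁻¹) * n⁻¹⁻¹ = w' by group] at h5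
  have hfix : ∀ n ∈ normalizer ((S : Subgroup G) : Set G),
      n * (P.A.z * P.B.z) * n⁻¹ = P.A.z * P.B.z ∧ n * P.A.z * n⁻¹ = P.A.z := by
    intro n hn
    have himg : ∀ {c : G}, P.IsC c → P.IsC (n * c * n⁻¹) := by
      intro c hc
      have hcen := (P.isC_central hc).conj S hn
      obtain ⟨a, ha, b, hb, hab⟩ := P.split hcen.1
      obtain ⟨hac, hbc⟩ := P.central_split ha hb (hab ▸ hcen)
      have hne : n * c * n⁻¹ ≠ 1 := conj_ne_one (by
        rcases hc with rfl | rfl | rfl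
        · exact P.A.z_ne
        · exact P.B.z_ne
        · exact fun h => P.A.z_ne (P.uniq P.A.z_mem (one_mem _) P.B.z_mem (one_mem _)
            (h.trans (mul_one 1).symm)).1)
      rcases central_cases P.A hA ha hac with rfl | rfl <;>
        rcases central_cases P.B hB hb hbc with rfl | rfl
      · exact absurd (hab.trans (mul_one 1)) hne
      · exact Or.inr (Or.inl (hab.trans (one_mul _)))
      · exact Or.inl (hab.trans (mul_one _))
      · exact Or.inr (Or.inr hab)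
    have e3 : n * (P.A.z * P.B.z) * n⁻¹ = P.A.z * P.B.z := by
      rcases himg (Or.inr (Or.inr rfl) : P.IsC (P.A.z * P.B.z)) with h1 | h1 | h1
      · exact absurd (key n⁻¹ (inv_mem hn) (show n⁻¹ * _ * n⁻¹⁻¹ = P.A.z * P.B.z by
          rw [inv_inv]; exact (conj_eq_iff.1 h1).symm) (P.hasPair_z₁ hA hB)) P.not_hasPair
      · exact absurd (key n⁻¹ (inv_mem hn) (show n⁻¹ * _ * n⁻¹⁻¹ = P.A.z * P.B.z by
          rw [inv_inv]; exact (conj_eq_iff.1 h1).symm) hpz₂) P.not_hasPair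
      · exact h1
    refine ⟨e3, ?_⟩
    rcases himg (Or.inl rfl : P.IsC P.A.z) with h1 | h1 | h1
    · exact h1
    · rcases himg (Or.inr (Or.inl rfl) : P.IsC P.B.z) with h2 | h2 | h2
      · exact fix_of_sq_fix S hn P.central_z₁ (by rw [h1, h2])
      · exact absurd (conj_inj (h1.trans h2.symm)) P.z_ne_z
      · exact absurd (conj_inj (h2.trans e3.symm)) (fun h3 => P.A.z_ne (right_eq_mul.1 h3))
    · exact absurd (conj_inj (h1.trans e3.symm)) (fun h3 => P.B.z_ne (left_eq_mul.1 h3))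
  obtain ⟨n, hn, he⟩ := burnside S (P.isC_central hc) (P.isC_central hc') h
  obtain ⟨h3, h1⟩ := hfix n hn
  have h2 : n * P.B.z * n⁻¹ = P.B.z := by
    have h4 := h3
    rw [DihProd.conj_mul, h1] at h4
    exact mul_left_cancel h4
  rcases hc with rfl | rfl | rfl
  exacts [h1.symm.trans he, h2.symm.trans he, h3.symm.trans he]

theorem ne_mul : P.A.z * P.B.z ≠ P.B.z := fun h => P.A.z_ne (mul_eq_right.1 h)

theorem ne_mul' : P.A.z * P.B.z ≠ P.A.z := fun h => P.B.z_ne (mul_eq_left.1 h)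

/-- A central involution having a square root in `S` moved into `S` is fixed. -/
theorem fix_square (hA : 2 ∣ P.A.h) (hB : 2 ∣ P.B.h) {g w c : G} (hc : P.IsC c) (hwc : w * w = c)
    (hgw : g * w * g⁻¹ ∈ (S : Subgroup G)) : g * c * g⁻¹ = c := by
  obtain ⟨a, ha, b, hb, hab⟩ := P.split hgw
  have hcc : c * c = 1 := by
    rcases hc with rfl | rfl | rfl
    · exact P.A.z_sq
    · exact P.B.z_sq
    · rw [P.mul_mul P.A.z_mem P.B.z_mem, P.A.z_sq, P.B.z_sq, mul_one]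
  have h1 : g * c * g⁻¹ = a * a * (b * b) := by
    rw [← hwc, DihProd.conj_mul, hab, P.mul_mul ha hb]
  have hne : g * c * g⁻¹ ≠ 1 := conj_ne_one (by
    rcases hc with rfl | rfl | rfl
    · exact P.A.z_ne
    · exact P.B.z_ne
    · exact fun h => P.A.z_ne (P.uniq P.A.z_mem (one_mem _) P.B.z_mem (one_mem _)
        (h.trans (mul_one 1).symm)).1)
  obtain ⟨ha2, hb2⟩ := P.sq_eq_one (mul_mem ha ha) (mul_mem hb hb) (by
    rw [← h1]; exact conj_sq hcc)
  have h2 : P.IsC (g * c * g⁻¹) := by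
    rcases sq_cases P.A ha ha2 with e | e <;> rcases sq_cases P.B hb hb2 with e' | e' <;>
      rw [e, e'] at h1
    · exact absurd (h1.trans (mul_one 1)) hne
    · exact Or.inr (Or.inl (h1.trans (one_mul _)))
    · exact Or.inl (h1.trans (mul_one _))
    · exact Or.inr (Or.inr h1)
  exact (P.distinct hA hB hc h2 (isConj_iff.2 ⟨g, rfl⟩)).symm

/-- Each reflection times a central element of the other factor is conjugate to `z`. -/
theorem exists_e (hno : ∀ N : Subgroup G, N.Normal → N.index ≠ 2) (hA : 2 ∣ P.A.h)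
    (hB : 2 ∣ P.B.h) (i : ℤ) :
    ∃ e, (e = 1 ∨ e = P.B.z) ∧ IsConj (P.A.r ^ i * P.A.s * e) P.A.z := by
  set β := P.A.r ^ i * P.A.s with hβ
  have hβD : β ∈ P.D₁ := refl_mem P.A i
  obtain ⟨g, a, ha, b, hb, hy, ha', -⟩ := P.exists_conj_rot hno (P.A.refl_sq i)
  obtain ⟨u, huS, hβu, hu⟩ := exists_extremal S (P.le₁ hβD)
  obtain ⟨g₁, hg₁, hg₁C⟩ := hu β hβu
  obtain ⟨g₂, hg₂, hg₂C⟩ := hu (a * b) ((isConj_iff.2 ⟨g, hy⟩).symm.trans hβu)
  obtain ⟨l, -, hl⟩ := exists_root P.A hA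
  obtain ⟨m, -, hm⟩ := exists_root P.B hB
  have hrl := zpow_mem P.A.rS l
  have hrm := zpow_mem P.B.rS m
  -- roots of the two central involutions commuting with `u`
  have hq₁c : Commute (P.A.r ^ l) (a * b) :=
    Commute.mul_right (by rcases ha' with rfl | rfl; exacts [Commute.one_right _, P.z₁_comm _ hrl])
      (P.comm hrl hb)
  have hq₁ := hg₂C _ (P.le₁ hrl) hq₁c
  have hq₁u := commute_conj g₂ hq₁c
  rw [hg₂] at hq₁u
  have hz₁ : g₂ * P.A.z * g₂⁻¹ = P.A.z := P.fix_square hA hB (Or.inl rfl) hl hq₁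
  have hq₂c : Commute (P.B.r ^ m) β := (P.comm hβD hrm).symm
  have hq₂ := hg₁C _ (P.le₂ hrm) hq₂c
  have hq₂u := commute_conj g₁ hq₂c
  rw [hg₁] at hq₂u
  have hz₂ : g₁ * P.B.z * g₁⁻¹ = P.B.z := P.fix_square hA hB (Or.inr (Or.inl rfl)) hm hq₂
  obtain ⟨c, hc, d, hd, rfl⟩ := P.split huS
  have hu2 : c * d * (c * d) = 1 := by rw [← hg₁]; exact conj_sq (P.A.refl_sq i)
  obtain ⟨hcc, hdd⟩ := P.sq_eq_one hc hd hu2
  have hc' : c = 1 ∨ c = P.A.z := by
    rcases inv_cases P.A hc hcc with h | h | ⟨j, h⟩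
    · exact Or.inl h
    · exact Or.inr h
    exfalso
    obtain ⟨p, hp, q, hq, hpq⟩ := P.split hq₁
    rw [hpq] at hq₁u
    refine root_not_comm P.A h hp ?_ ((P.comm_iff hp hc hq hd).1 hq₁u).1
    refine (P.uniq (mul_mem hp hp) P.A.z_mem (mul_mem hq hq) (one_mem _) ?_).1
    rw [← P.mul_mul hp hq, ← hpq, ← DihProd.conj_mul, hl, hz₁, mul_one]
  have hd' : d = 1 ∨ d = P.B.z := by
    rcases inv_cases P.B hd hdd with h | h | ⟨j, h⟩
    · exact Or.inl h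
    · exact Or.inr h
    exfalso
    obtain ⟨p, hp, q, hq, hpq⟩ := P.split hq₂
    rw [hpq] at hq₂u
    refine root_not_comm P.B h hq ?_ ((P.comm_iff hp hc hq hd).1 hq₂u).2
    refine (P.uniq (mul_mem hp hp) (one_mem _) (mul_mem hq hq) P.B.z_mem ?_).2
    rw [← P.mul_mul hp hq, ← hpq, ← DihProd.conj_mul, hm, hz₂, one_mul]
  rcases hc' with rfl | rfl <;> rcases hd' with rfl | rfl
  · exact absurd (hg₁.trans (one_mul 1)) (conj_ne_one (P.A.refl_ne_one i))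
  · exfalso
    have h1 := conj_inj (hg₁.trans ((one_mul P.B.z).trans hz₂.symm))
    exact P.A.refl_ne_one i (P.eq_one hβD (show β ∈ P.D₂ by rw [h1]; exact P.B.z_mem))
  · exact ⟨1, Or.inl rfl, isConj_iff.2 ⟨g₁, by rw [mul_one, hg₁, mul_one]⟩⟩
  · exact ⟨P.B.z, Or.inr rfl, isConj_iff.2 ⟨g₁, by
      rw [DihProd.conj_mul, hg₁, hz₂, mul_assoc, P.B.z_sq, mul_one]⟩⟩

theorem refl_mul_z (hA : 2 ∣ P.A.h) (hB : 2 ∣ P.B.h) (hR : P.Refl) (i : ℤ) :
    IsConj (P.A.r ^ i * P.A.s * P.B.z) (P.A.z * P.B.z) := by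
  obtain ⟨g, hg, hgC⟩ := to_central S P.central_z₁ (hR i)
  obtain ⟨m, -, hm⟩ := exists_root P.B hB
  have hrm := zpow_mem P.B.rS m
  have hz₂ := P.fix_square hA hB (g := g) (Or.inr (Or.inl rfl)) hm
    (hgC _ (P.le₂ hrm) (P.comm (refl_mem P.A i) hrm).symm)
  exact isConj_iff.2 ⟨g, by rw [DihProd.conj_mul, hg, hz₂]⟩

theorem refl_mul_refl_aux (hA : 2 ∣ P.A.h) (hB : 2 ∣ P.B.h) (hR : P.Refl) (hR' : P.swap.Refl)
    (i j : ℤ) :
    IsConj (P.A.r ^ i * P.A.s * (P.B.r ^ j * P.B.s)) P.B.z ∨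
      IsConj (P.A.r ^ i * P.A.s * (P.B.r ^ j * P.B.s)) (P.A.z * P.B.z) := by
  set α := P.A.r ^ i * P.A.s with hα
  set β := P.B.r ^ j * P.B.s with hβ
  have hαD : α ∈ P.D₁ := refl_mem P.A i
  have hβD : β ∈ P.D₂ := refl_mem P.B j
  obtain ⟨g, hg, hgC⟩ := to_central S P.central_z₁ (hR i)
  obtain ⟨m, -, hm⟩ := exists_root P.B hB
  have hz₂ := P.fix_square hA hB (g := g) (Or.inr (Or.inl rfl)) hm
    (hgC _ (P.le₂ (zpow_mem P.B.rS m)) (P.comm (refl_mem P.A i) (zpow_mem P.B.rS m)).symm)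
  have hyS := hgC β (P.le₂ hβD) (P.comm hαD hβD).symm
  obtain ⟨a, ha, b, hb, hab⟩ := P.split hyS
  have hyz : IsConj (a * b) P.B.z := (isConj_iff.2 ⟨g, hab⟩).symm.trans (hR' j)
  have himg : IsConj (α * β) (P.A.z * (a * b)) :=
    isConj_iff.2 ⟨g, by rw [DihProd.conj_mul, hg, hab]⟩
  obtain ⟨haa, hbb⟩ := P.sq_eq_one ha hb (by rw [← hab]; exact conj_sq (P.B.refl_sq j))
  rcases inv_cases P.A ha haa with h | h | ⟨k, h⟩
  · subst h
    rw [one_mul] at hab hyz himg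
    rcases inv_cases P.B hb hbb with h | h | ⟨k, h⟩
    · subst h; exact absurd hab (conj_ne_one (P.B.refl_ne_one j))
    · subst h; exact absurd (conj_inj (hab.trans hz₂.symm)) (P.B.refl_ne_z j)
    · subst h
      refine Or.inr (himg.trans ?_)
      have h1 := P.swap.refl_mul_z hB hA hR' k
      change IsConj (P.B.r ^ k * P.B.s * P.A.z) (P.B.z * P.A.z) at h1
      rwa [(P.comm P.A.z_mem (refl_mem P.B k)).symm.eq, (P.comm P.A.z_mem P.B.z_mem).symm.eq] at h1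
  · subst h
    exfalso
    rcases inv_cases P.B hb hbb with h | h | ⟨k, h⟩
    · subst h
      rw [mul_one] at hyz
      exact P.z_ne_z (P.distinct hA hB (Or.inl rfl) (Or.inr (Or.inl rfl)) hyz)
    · subst h
      exact P.ne_mul (P.distinct hA hB (Or.inr (Or.inr rfl)) (Or.inr (Or.inl rfl)) hyz)
    · subst h
      have h1 := P.swap.refl_mul_z hB hA hR' k
      change IsConj (P.B.r ^ k * P.B.s * P.A.z) (P.B.z * P.A.z) at h1
      rw [(P.comm P.A.z_mem (refl_mem P.B k)).symm.eq, (P.comm P.A.z_mem P.B.z_mem).symm.eq] at h1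
      exact P.ne_mul (P.distinct hA hB (Or.inr (Or.inr rfl)) (Or.inr (Or.inl rfl))
        (h1.symm.trans hyz))
  · subst h
    refine Or.inl (himg.trans (IsConj.trans (IsConj.symm ?_) hyz))
    obtain ⟨t, ht, htc⟩ := refl_z_conj P.A hA k
    refine isConj_iff.2 ⟨t, ?_⟩
    rw [DihProd.conj_mul, htc, (P.comm ht hb).eq, mul_inv_cancel_right,
      (P.z₁_comm _ (refl_mem P.A k)).eq, mul_assoc]

theorem refl_mul_refl (hA : 2 ∣ P.A.h) (hB : 2 ∣ P.B.h) (hR : P.Refl) (hR' : P.swap.Refl)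
    (i j : ℤ) : IsConj (P.A.r ^ i * P.A.s * (P.B.r ^ j * P.B.s)) (P.A.z * P.B.z) := by
  rcases P.refl_mul_refl_aux hA hB hR hR' i j with h | h
  · have h2 := P.swap.refl_mul_refl_aux hB hA hR' hR j i
    change IsConj (P.B.r ^ j * P.B.s * (P.A.r ^ i * P.A.s)) P.A.z ∨
      IsConj (P.B.r ^ j * P.B.s * (P.A.r ^ i * P.A.s)) (P.B.z * P.A.z) at h2
    rw [(P.comm (refl_mem P.A i) (refl_mem P.B j)).symm.eq,
      (P.comm P.A.z_mem P.B.z_mem).symm.eq] at h2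
    rcases h2 with h2 | h2
    · exact absurd (P.distinct hA hB (Or.inl rfl) (Or.inr (Or.inl rfl)) (h2.symm.trans h)) P.z_ne_z
    · exact h2
  · exact h

theorem closed_A (hA : 2 ∣ P.A.h) (hB : 2 ∣ P.B.h) (hR : P.Refl) (hR' : P.swap.Refl) :
    Cfsg.IsStronglyClosed P.D₁ (S : Subgroup G) := by
  refine P.stronglyClosed₁ fun a ha haa g hg => ?_
  by_cases ha1 : a = 1
  · subst ha1; simpa using one_mem P.D₁
  have haz : IsConj a P.A.z := by
    rcases inv_cases P.A ha haa with h | h | ⟨i, rfl⟩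
    · exact absurd h ha1
    · rw [h]
    · exact hR i
  obtain ⟨c, hc, d, hd, hcd⟩ := P.split hg
  obtain ⟨hcc, hdd⟩ := P.sq_eq_one hc hd (by rw [← hcd]; exact conj_sq haa)
  by_cases hd1 : d = 1
  · rw [hcd, hd1, mul_one]; exact hc
  exfalso
  have hyz : IsConj (c * d) P.A.z := (isConj_iff.2 ⟨g, hcd⟩).symm.trans haz
  have hd' : IsConj d P.B.z := by
    rcases inv_cases P.B hd hdd with h | h | ⟨j, rfl⟩
    · exact absurd h hd1
    · rw [h]
    · exact hR' j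
  by_cases hc1 : c = 1
  · rw [hc1, one_mul] at hyz
    exact P.z_ne_z (P.distinct hA hB (Or.inl rfl) (Or.inr (Or.inl rfl)) (hyz.symm.trans hd'))
  have h12 : IsConj (c * d) (P.A.z * P.B.z) := by
    rcases inv_cases P.A hc hcc with h | h | ⟨i, rfl⟩
    · exact absurd h hc1
    · rcases inv_cases P.B hd hdd with h' | h' | ⟨j, rfl⟩
      · exact absurd h' hd1
      · rw [h, h']
      · have h1 := P.swap.refl_mul_z hB hA hR' j
        change IsConj (P.B.r ^ j * P.B.s * P.A.z) (P.B.z * P.A.z) at h1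
        rw [(P.comm P.A.z_mem (refl_mem P.B j)).symm.eq, (P.comm P.A.z_mem P.B.z_mem).symm.eq] at h1
        rw [h]; exact h1
    · rcases inv_cases P.B hd hdd with h' | h' | ⟨j, rfl⟩
      · exact absurd h' hd1
      · rw [h']; exact P.refl_mul_z hA hB hR i
      · exact P.refl_mul_refl hA hB hR hR' i j
  exact P.ne_mul' (P.distinct hA hB (Or.inr (Or.inr rfl)) (Or.inl rfl) (h12.symm.trans hyz))

theorem exists_good (hno : ∀ N : Subgroup G, N.Normal → N.index ≠ 2) (hA : 2 ∣ P.A.h)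
    (hB : 2 ∣ P.B.h) :
    ∃ Q : Fact2 S, Q.Refl ∧ Q.D₂ = P.D₂ ∧ Q.A.h = P.A.h ∧ Q.B.h = P.B.h ∧ Q.B.z = P.B.z := by
  obtain ⟨e₀, he₀, h₀⟩ := P.exists_e hno hA hB 0
  obtain ⟨e₁, he₁, h₁⟩ := P.exists_e hno hA hB 1
  have key : ∀ e : G, e = 1 ∨ e = P.B.z → e ∈ P.D₂ ∧ (∀ q ∈ P.D₂, Commute q e) ∧ e * e = 1 := by
    rintro e (rfl | rfl)
    · exact ⟨one_mem _, fun q _ => Commute.one_right q, one_mul 1⟩
    · exact ⟨P.B.z_mem, P.swap.z₁_comm, P.B.z_sq⟩
  obtain ⟨k1, k2, k3⟩ := key e₀ he₀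
  obtain ⟨l1, l2, l3⟩ := key e₁ he₁
  rw [zpow_zero, one_mul] at h₀
  rw [zpow_one] at h₁
  exact P.exists_change hA k1 l1 k2 l2 k3 l3 h₀ h₁

/-- Both factors of order at least eight: a strongly closed factorisation. -/
theorem main_A (hno : ∀ N : Subgroup G, N.Normal → N.index ≠ 2) (hA : 2 ∣ P.A.h)
    (hB : 2 ∣ P.B.h) :
    ∃ Q : Fact2 S, Cfsg.IsStronglyClosed Q.D₁ (S : Subgroup G) ∧
      Cfsg.IsStronglyClosed Q.D₂ (S : Subgroup G) := by
  obtain ⟨Q, hQ, -, hQA, hQB, -⟩ := P.exists_good hno hA hB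
  have hA' : 2 ∣ Q.A.h := hQA ▸ hA
  have hB' : 2 ∣ Q.B.h := hQB ▸ hB
  obtain ⟨e₀, he₀, h₀⟩ := Q.swap.exists_e hno hB' hA' 0
  obtain ⟨e₁, he₁, h₁⟩ := Q.swap.exists_e hno hB' hA' 1
  have key : ∀ e : G, e = 1 ∨ e = Q.A.z → e ∈ Q.D₁ ∧ (∀ q ∈ Q.D₁, Commute q e) ∧ e * e = 1 := by
    rintro e (rfl | rfl)
    · exact ⟨one_mem _, fun q _ => Commute.one_right q, one_mul 1⟩
    · exact ⟨Q.A.z_mem, Q.z₁_comm, Q.A.z_sq⟩
  obtain ⟨k1, k2, k3⟩ := key e₀ he₀
  obtain ⟨l1, l2, l3⟩ := key e₁ he₁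
  rw [zpow_zero, one_mul] at h₀
  rw [zpow_one] at h₁
  obtain ⟨D₁, D₂, hp, A, B⟩ := Q
  obtain ⟨⟨E₁, E₂, hp', A', B'⟩, hR, hD, hA'', hB'', -⟩ :=
    Fact2.exists_change (Fact2.swap ⟨D₁, D₂, hp, A, B⟩) hB' k1 l1 k2 l2 k3 l3 h₀ h₁
  change E₂ = D₁ at hD
  subst hD
  change 2 ∣ A.h at hA'
  change 2 ∣ B.h at hB'
  change A'.h = B.h at hA''
  let R : Fact2 S := Fact2.swap ⟨E₁, E₂, hp', A', A⟩
  have hR1 : R.Refl := hQ
  have hR2 : R.swap.Refl := hR
  have hRA : 2 ∣ R.A.h := hA'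
  have hRB : 2 ∣ R.B.h := show 2 ∣ A'.h from hA'' ▸ hB'
  exact ⟨R, R.closed_A hRA hRB hR1 hR2, R.swap.closed_A hRB hRA hR2 hR1⟩

end Fact2

end CfsgLib.DihProd
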