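import Cfsg.Agent.DihProd.Transfer

/-!
A dihedral factor of order at least eight and a four-group factor.
-/

set_option autoImplicit false
set_option linter.unusedSectionVars false
set_option linter.deprecated false
set_option linter.style.haveILetI false
set_option linter.unusedVariables false

namespace CfsgLib.DihProd

open Subgroup CfsgLib.DihFour

variable {G : Type*} [Group G] [Finite G] {S : Sylow 2 G}

namespace Fact2

variable (P : Fact2 S)

theorem central_four (hB : P.B.h = 1) {a b : G} (ha : a = 1 ∨ a = P.A.z) (hb : b ∈ P.D₂) :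
    IsCentralIn S (a * b) := by
  have ha' : a ∈ P.D₁ ∧ ∀ q ∈ P.D₁, Commute q a := by
    rcases ha with rfl | rfl
    · exact ⟨one_mem _, fun q _ => Commute.one_right q⟩
    · exact ⟨P.A.z_mem, P.z₁_comm⟩
  exact P.isCentralIn ha'.1 hb ha'.2 fun q hq => four_comm P.B hB hq hb

theorem central_four' (hB : P.B.h = 1) {b : G} (hb : b ∈ P.D₂) : IsCentralIn S b := by
  simpa using P.central_four hB (Or.inl rfl : (1 : G) = 1 ∨ (1 : G) = P.A.z) hb

theorem central_comp (hA : 2 ∣ P.A.h) {a b : G} (ha : a ∈ P.D₁) (hb : b ∈ P.D₂)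
    (h : IsCentralIn S (a * b)) : a = 1 ∨ a = P.A.z :=
  central_cases P.A hA ha (P.central_split ha hb h).1

/-- `N(S)` fixes the only involution which is a square. -/
theorem fix_z (hA : 2 ∣ P.A.h) (hB : P.B.h = 1) {n : G}
    (hn : n ∈ normalizer ((S : Subgroup G) : Set G)) : n * P.A.z * n⁻¹ = P.A.z := by
  obtain ⟨l, -, hl⟩ := exists_root P.A hA
  obtain ⟨a, ha, b, hb, hab⟩ := P.split (normalizer_mem S hn (P.le₁ (zpow_mem P.A.rS l)))
  have h1 : n * P.A.z * n⁻¹ = a * a := by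
    rw [← hl, DihProd.conj_mul, hab, P.mul_mul ha hb, four_sq P.B hB hb, mul_one]
  rcases sq_cases P.A ha (by rw [← h1]; exact conj_sq P.A.z_sq) with h | h
  · exact absurd (h1.trans h) (conj_ne_one P.A.z_ne)
  · exact h1.trans h

theorem z_class (hA : 2 ∣ P.A.h) (hB : P.B.h = 1) {y : G} (hy : IsCentralIn S y)
    (h : IsConj y P.A.z) : y = P.A.z := by
  obtain ⟨n, hn, he⟩ := burnside S hy P.central_z₁ h
  exact conj_inj (he.trans (P.fix_z hA hB hn).symm)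

theorem central_ne (hA : 2 ∣ P.A.h) (hB : P.B.h = 1) {w : G} (hw : IsCentralIn S w)
    (h : IsConj w (w * P.A.z)) : False := by
  obtain ⟨n, hn, he⟩ := burnside S hw (hw.mul S P.central_z₁) h
  have h2 : n * (n * w * n⁻¹) * n⁻¹ = w := by
    rw [he, DihProd.conj_mul, he, P.fix_z hA hB hn, mul_assoc, P.A.z_sq, mul_one]
  exact P.A.z_ne (left_eq_mul.1 ((fix_of_sq_fix S hn hw h2).symm.trans he))

/-- The centralizer in `S` of a noncentral involution. -/
def E (i : ℤ) : Subgroup G := P.A.four i ⊔ P.D₂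

theorem card_E (i : ℤ) : Nat.card (P.E i) = 4 * Nat.card P.D₂ := by
  rw [E, P.card_sup (P.A.four_le i) le_rfl, (P.A.four_klein i).card_four]

theorem E_le (i : ℤ) : P.E i ≤ (S : Subgroup G) :=
  sup_le ((P.A.four_le i).trans P.hp.1) P.hp.2.1

theorem mem_E (hA : 2 ∣ P.A.h) (hB : P.B.h = 1) {i : ℤ} {e q : G} (he : e ∈ P.D₂)
    (hq : q ∈ (S : Subgroup G)) : q ∈ P.E i ↔ Commute q (P.A.r ^ i * P.A.s * e) := by
  have hzf : P.A.z ∈ P.A.four i := subset_closure (Or.inl rfl)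
  have hbf : P.A.r ^ i * P.A.s ∈ P.A.four i := subset_closure (Or.inr rfl)
  refine ⟨fun h => ?_, fun h => ?_⟩
  · obtain ⟨a, ha, b, hb, rfl⟩ := (P.mem_sup_iff (P.A.four_le i) le_rfl).1 h
    refine (P.comm_iff (P.A.four_le i ha) (refl_mem P.A i) hb he).2 ⟨?_, four_comm P.B hB hb he⟩
    haveI := P.A.four_klein i
    have hinv : ∀ {g : G}, g ∈ P.A.four i → g⁻¹ = g := fun hg => inv_eq_of_mul_eq_one_right
      (congrArg Subtype.val (IsKleinFour.mul_self (⟨_, hg⟩ : P.A.four i)))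
    show a * _ = _ * a
    calc a * (P.A.r ^ i * P.A.s) = (a * (P.A.r ^ i * P.A.s))⁻¹ := (hinv (mul_mem ha hbf)).symm
      _ = P.A.r ^ i * P.A.s * a := by rw [mul_inv_rev, hinv hbf, hinv ha]
  · obtain ⟨a, ha, b, hb, rfl⟩ := P.split hq
    refine mul_mem_sup ?_ hb
    have hc := ((P.comm_iff ha (refl_mem P.A i) hb he).1 h).1
    have hrot : ∀ l : ℤ, Commute (P.A.r ^ l) (P.A.r ^ i * P.A.s) → P.A.r ^ l ∈ P.A.four i := by
      intro l hl
      rcases P.A.rpow_inv_of_sq (comm_refl_rot P.A hl) with h1 | h1 <;> rw [h1]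
      exacts [one_mem _, hzf]
    obtain ⟨l, rfl | rfl⟩ := P.A.cases a ha
    · exact hrot l hc
    · have h1 : Commute (P.A.r ^ (l - i)) (P.A.r ^ i * P.A.s) := by
        rw [← P.A.refl_mul]; exact hc.mul_left (Commute.refl _)
      have h2 := mul_mem (hrot _ h1) hbf
      rwa [← mul_assoc, ← zpow_add, sub_add_cancel] at h2

theorem exists_eB (hno : ∀ N : Subgroup G, N.Normal → N.index ≠ 2) (hA : 2 ∣ P.A.h)
    (hB : P.B.h = 1) (i : ℤ) : ∃ e ∈ P.D₂, IsConj (P.A.r ^ i * P.A.s * e) P.A.z := by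
  set x := P.A.r ^ i * P.A.s with hx
  have hxS : x ∈ (S : Subgroup G) := P.le₁ (refl_mem P.A i)
  obtain ⟨g₀, a, ha, b, hb, hab, ha', -⟩ := P.exists_conj_rot hno (P.A.refl_sq i)
  obtain ⟨g, hg, hgC⟩ := to_central S (P.central_four hB ha' hb) (isConj_iff.2 ⟨g₀, hab⟩)
  set w := a * b with hw
  have hyS : g * P.A.z * g⁻¹ ∈ (S : Subgroup G) :=
    hgC _ (P.le₁ P.A.z_mem) (P.z₁_comm _ (refl_mem P.A i)).symm
  obtain ⟨c, hc, d, hd, hcd⟩ := P.split hyS
  have hcc := (P.sq_eq_one hc hd (by rw [← hcd]; exact conj_sq P.A.z_sq)).1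
  by_cases hcen : c = 1 ∨ c = P.A.z
  · exfalso
    have hyz : g * P.A.z * g⁻¹ = P.A.z := by
      rw [hcd]
      exact P.z_class hA hB (P.central_four hB hcen hd) (hcd ▸ (isConj_iff.2 ⟨g, rfl⟩).symm)
    obtain ⟨t, ht, htc⟩ := refl_z_conj P.A hA i
    refine P.central_ne hA hB (P.central_four hB ha' hb) ?_
    refine IsConj.trans (isConj_iff.2 ⟨g, hg⟩).symm (IsConj.trans (isConj_iff.2 ⟨t, htc⟩) ?_)
    exact isConj_iff.2 ⟨g, by rw [DihProd.conj_mul, hg, hyz]⟩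
  obtain ⟨j, rfl⟩ : ∃ j : ℤ, c = P.A.r ^ j * P.A.s := by
    rcases inv_cases P.A hc hcc with h | h | h
    · exact absurd (Or.inl h) hcen
    · exact absurd (Or.inr h) hcen
    · exact h
  -- `g` maps the centralizer of `x` onto that of `g z g⁻¹`
  have hmap : (P.E i).map (MulAut.conj g).toMonoidHom ≤ P.E j := by
    rintro _ ⟨q, hq, rfl⟩
    have hqS := P.E_le i hq
    have hqx : Commute q x := by simpa using (P.mem_E hA hB (one_mem _) hqS).1 hq
    have h1 : g * q * g⁻¹ ∈ (S : Subgroup G) := hgC q hqS hqx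
    refine (P.mem_E hA hB hd h1).2 ?_
    show Commute (g * q * g⁻¹) _
    rw [← hcd]
    exact commute_conj g (P.comm_z hqS)
  have heq := eq_of_le_of_card_ge hmap (by
    rw [card_map_of_injective (f := (MulAut.conj g).toMonoidHom) (MulAut.conj g).injective,
      P.card_E, P.card_E])
  obtain ⟨p, hp, hpz⟩ : P.A.z ∈ (P.E i).map (MulAut.conj g).toMonoidHom := by
    rw [heq]; exact mem_sup_left (subset_closure (Or.inl rfl))
  have hpz' : g * p * g⁻¹ = P.A.z := hpz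
  obtain ⟨f, hf, e, he, rfl⟩ := (P.mem_sup_iff (P.A.four_le i) le_rfl).1 hp
  refine ⟨e, he, ?_⟩
  have hconj : IsConj (f * e) P.A.z := isConj_iff.2 ⟨g, hpz'⟩
  have hcentral : f = 1 ∨ f = P.A.z → False := fun h => by
    have h1 := P.z_class hA hB (P.central_four hB h he) hconj
    rw [h1, hcd] at hpz'
    have h2 := (P.uniq (refl_mem P.A j) P.A.z_mem hd (one_mem _) (by rw [mul_one]; exact hpz')).1
    exact P.A.refl_ne_z j h2
  rcases P.A.mem_four hf inferInstance with h | h | h | h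
  · exact (hcentral (Or.inl h)).elim
  · exact (hcentral (Or.inr h)).elim
  · rwa [h] at hconj
  · refine IsConj.trans ?_ hconj
    obtain ⟨t, ht, htc⟩ := refl_z_conj P.A hA i
    refine isConj_iff.2 ⟨t, ?_⟩
    rw [DihProd.conj_mul, htc, (P.comm ht he).eq, mul_inv_cancel_right, h, DihFour.Data.z, mul_assoc _ P.A.s,
      P.A.s_mul_rpow, ← mul_assoc (P.A.r ^ i), ← zpow_add]
    have h2 : P.A.r ^ (-(P.A.h : ℤ)) = P.A.r ^ (P.A.h : ℤ) := by
      rw [zpow_neg]; exact P.A.z_inv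
    rw [zpow_add, h2, ← zpow_add]

theorem refl_v (hA : 2 ∣ P.A.h) (hB : P.B.h = 1) (hR : P.Refl) (i : ℤ) {v : G} (hv : v ∈ P.D₂) :
    IsConj (P.A.r ^ i * P.A.s * v) v ∨ ∃ w, IsCentralIn S w ∧ IsConj v w ∧
      IsConj (P.A.r ^ i * P.A.s * v) (P.A.z * w) := by
  obtain ⟨g, hg, hgC⟩ := to_central S P.central_z₁ (hR i)
  have hyS := hgC v (P.le₂ hv) (P.comm (refl_mem P.A i) hv).symm
  obtain ⟨c, hc, d, hd, hcd⟩ := P.split hyS
  have himg : IsConj (P.A.r ^ i * P.A.s * v) (P.A.z * (c * d)) :=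
    isConj_iff.2 ⟨g, by rw [DihProd.conj_mul, hg, hcd]⟩
  have hcc := (P.sq_eq_one hc hd (by rw [← hcd]; exact conj_sq (four_sq P.B hB hv))).1
  by_cases hcen : c = 1 ∨ c = P.A.z
  · exact Or.inr ⟨_, P.central_four hB hcen hd, isConj_iff.2 ⟨g, hcd⟩, himg⟩
  obtain ⟨j, rfl⟩ : ∃ j : ℤ, c = P.A.r ^ j * P.A.s := by
    rcases inv_cases P.A hc hcc with h | h | h
    · exact absurd (Or.inl h) hcen
    · exact absurd (Or.inr h) hcen
    · exact h
  refine Or.inl (himg.trans (IsConj.trans ?_ (isConj_iff.2 ⟨g, hcd⟩).symm))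
  obtain ⟨t, ht, htc⟩ := refl_z_conj P.A hA j
  refine (isConj_iff.2 ⟨t, ?_⟩).symm
  rw [DihProd.conj_mul, htc, (P.comm ht hd).eq, mul_inv_cancel_right,
    (P.z₁_comm _ (refl_mem P.A j)).eq, mul_assoc]

theorem closed_B1 (hA : 2 ∣ P.A.h) (hB : P.B.h = 1) (hR : P.Refl) :
    Cfsg.IsStronglyClosed P.D₁ (S : Subgroup G) := by
  refine P.stronglyClosed₁ fun a ha haa g hg => ?_
  by_cases ha1 : a = 1
  · subst ha1; simpa using one_mem P.D₁
  have haz : IsConj a P.A.z := by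
    rcases inv_cases P.A ha haa with h | h | ⟨i, rfl⟩
    · exact absurd h ha1
    · rw [h]
    · exact hR i
  obtain ⟨c, hc, d, hd, hcd⟩ := P.split hg
  have hcc := (P.sq_eq_one hc hd (by rw [← hcd]; exact conj_sq haa)).1
  have hyz : IsConj (c * d) P.A.z := (isConj_iff.2 ⟨g, hcd⟩).symm.trans haz
  by_cases hd1 : d = 1
  · rw [hcd, hd1, mul_one]; exact hc
  exfalso
  refine hd1 ?_
  rcases inv_cases P.A hc hcc with h | h | ⟨j, rfl⟩
  · exact (P.uniq hc P.A.z_mem hd (one_mem _) ((P.z_class hA hB (P.central_four hB (Or.inl h) hd)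
      hyz).trans (mul_one _).symm)).2
  · exact (P.uniq hc P.A.z_mem hd (one_mem _) ((P.z_class hA hB (P.central_four hB (Or.inr h) hd)
      hyz).trans (mul_one _).symm)).2
  · rcases P.refl_v hA hB hR j hd with h | ⟨w, hw, hdw, h⟩
    · have h1 := P.z_class hA hB (P.central_four' hB hd) (h.symm.trans hyz)
      exact P.eq_one (h1 ▸ P.A.z_mem) hd
    · have h1 := mul_eq_left.1 (P.z_class hA hB (P.central_z₁.mul S hw) (h.symm.trans hyz))
      subst h1
      obtain ⟨t, ht⟩ := isConj_iff.1 hdw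
      exact conj_eq_one_iff.1 ht

theorem exists_moving (hno : ∀ N : Subgroup G, N.Normal → N.index ≠ 2) (hA : 2 ∣ P.A.h)
    (hB : P.B.h = 1) (hR : P.Refl) :
    ∃ n ∈ normalizer ((S : Subgroup G) : Set G), ∃ v ∈ P.D₂, n * v * n⁻¹ ≠ v := by
  by_contra hcon
  push Not at hcon
  have huniq : ∀ {u v : G}, u ∈ P.D₂ → IsCentralIn S v → IsConj u v → v = u := fun hu hv h => by
    obtain ⟨n, hn, he⟩ := burnside S (P.central_four' hB hu) hv h
    rw [← he, hcon n hn _ hu]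
  obtain ⟨g, d, hd, c, hc, hy, hd', hcc⟩ := P.swap.exists_conj_rot hno P.B.s_sq
  change d ∈ P.D₂ at hd
  change c ∈ P.D₁ at hc
  change g * P.B.s * g⁻¹ = d * c at hy
  change d = 1 ∨ d = P.B.z at hd'
  rw [(P.comm hc hd).symm.eq] at hy
  have hys : IsConj (c * d) P.B.s := (isConj_iff.2 ⟨g, hy⟩).symm
  suffices h : d = P.B.s by
    subst h
    rcases hd' with h | h
    · exact P.B.refl_ne_one 0 (by rw [zpow_zero, one_mul]; exact h)
    · exact P.B.s_ne_z h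
  rcases inv_cases P.A hc hcc with h | h | ⟨j, rfl⟩
  · have h1 := huniq P.B.sS (P.central_four hB (Or.inl h) hd) hys.symm
    exact (P.uniq hc (one_mem _) hd P.B.sS (h1.trans (one_mul _).symm)).2
  · have h1 := huniq P.B.sS (P.central_four hB (Or.inr h) hd) hys.symm
    exact (P.uniq hc (one_mem _) hd P.B.sS (h1.trans (one_mul _).symm)).2
  · rcases P.refl_v hA hB hR j hd with h | ⟨w, hw, hdw, h⟩
    · exact huniq P.B.sS (P.central_four' hB hd) (hys.symm.trans h)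
    · rw [huniq hd hw hdw] at h
      have h1 := huniq P.B.sS (P.central_four hB (Or.inr rfl) hd) (hys.symm.trans h)
      exact (P.uniq P.A.z_mem (one_mem _) hd P.B.sS (h1.trans (one_mul _).symm)).2

theorem four_third (hB : P.B.h = 1) {u v w : G} (hu : u ∈ P.D₂) (hv : v ∈ P.D₂) (hw : w ∈ P.D₂)
    (hu1 : u ≠ 1) (hv1 : v ≠ 1) (huv : u ≠ v) (hw1 : w ≠ 1) (hwu : w ≠ u) (hwv : w ≠ v) :
    w = u * v := by
  haveI : IsKleinFour P.D₂ :=
    isKleinFour_mk (by rw [P.B.card_eq, hB]) fun g hg => four_sq P.B hB hg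
  exact congrArg Subtype.val (IsKleinFour.eq_mul_of_ne_all (x := (⟨u, hu⟩ : P.D₂)) (y := ⟨v, hv⟩)
    (z := ⟨w, hw⟩) (fun h => hu1 (congrArg Subtype.val h)) (fun h => hv1 (congrArg Subtype.val h))
    (fun h => huv (congrArg Subtype.val h)) (fun h => hw1 (congrArg Subtype.val h))
    (fun h => hwu (congrArg Subtype.val h)) (fun h => hwv (congrArg Subtype.val h)))

/-- The component of a central element in the four-group determines it up to `z`. -/
theorem same_comp (hA : 2 ∣ P.A.h) {a a' b : G} (ha : a = 1 ∨ a = P.A.z) (ha' : a' = 1 ∨ a' = P.A.z)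
    (hb : b ∈ P.D₂) : a' * b = a * b ∨ a' * b = a * b * P.A.z := by
  rcases ha with rfl | rfl <;> rcases ha' with rfl | rfl
  · exact Or.inl rfl
  · exact Or.inr (by rw [one_mul, (P.comm P.A.z_mem hb).eq])
  · exact Or.inr (by rw [one_mul, (P.comm P.A.z_mem hb).eq, mul_assoc, P.A.z_sq, mul_one])
  · exact Or.inl rfl

theorem exists_cycle (hA : 2 ∣ P.A.h) (hB : P.B.h = 1) {n v : G}
    (hn : n ∈ normalizer ((S : Subgroup G) : Set G)) (hv : v ∈ P.D₂) (hnv : n * v * n⁻¹ ≠ v) :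
    ∃ v' ∈ P.D₂, ∃ p ∈ P.D₂, v' ≠ 1 ∧ p ≠ 1 ∧ v' ≠ p ∧ ∃ w w' : G,
      (w = v' ∨ w = P.A.z * v') ∧ (w' = p ∨ w' = P.A.z * p) ∧
      n * w * n⁻¹ = w' ∧ n * w' * n⁻¹ = w * w' := by
  have hv1 : v ≠ 1 := by rintro rfl; exact hnv (by group)
  have hwc : IsCentralIn S v := P.central_four' hB hv
  have hzf := P.fix_z hA hB hn
  have hw1c := hwc.conj S hn
  have hw2c := hw1c.conj S hn
  obtain ⟨a, ha, p, hp, hap⟩ := P.split hw1c.1
  obtain ⟨b, hb, q, hq, hbq⟩ := P.split hw2c.1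
  have ha' := P.central_comp hA ha hp (hap ▸ hw1c)
  have hb' := P.central_comp hA hb hq (hbq ▸ hw2c)
  have hn1 : IsConj v (n * v * n⁻¹) := isConj_iff.2 ⟨n, rfl⟩
  have hn2 : IsConj (n * v * n⁻¹) (n * (n * v * n⁻¹) * n⁻¹) := isConj_iff.2 ⟨n, rfl⟩
  have hzv : ∀ c : G, (c = 1 ∨ c = P.A.z) → n * v * n⁻¹ = c → False := by
    rintro c (rfl | rfl) h
    · exact conj_ne_one hv1 h
    · exact hv1 (P.eq_one ((conj_inj (h.trans hzf.symm)) ▸ P.A.z_mem) hv)
  have hp1 : p ≠ 1 := fun h => hzv a ha' (by rw [hap, h, mul_one])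
  have hpv : v ≠ p := by
    intro h
    rcases P.same_comp hA (Or.inl rfl : (1 : G) = 1 ∨ (1 : G) = P.A.z) ha' hv with e | e <;>
      rw [one_mul, h, ← hap, ← h] at e
    · exact hnv e
    · exact P.central_ne hA hB hwc (e ▸ hn1)
  have hq1 : q ≠ 1 := by
    intro h
    rw [h, mul_one] at hbq
    rcases hb' with rfl | rfl
    · exact conj_ne_one (conj_ne_one hv1) hbq
    · exact hzv _ (Or.inr rfl) (conj_inj (hbq.trans hzf.symm))
  have hqp : q ≠ p := by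
    intro h
    rw [h] at hbq
    rcases P.same_comp hA ha' hb' hp with e | e <;> rw [← hap, ← hbq] at e
    · exact hnv (conj_inj e)
    · exact P.central_ne hA hB hw1c (e ▸ hn2)
  have hqv : q ≠ v := by
    intro h
    rw [h] at hbq
    rcases P.same_comp hA (Or.inl rfl : (1 : G) = 1 ∨ (1 : G) = P.A.z) hb' hv with e | e <;>
      rw [one_mul, ← hbq] at e
    · exact hnv (fix_of_sq_fix S hn hwc e)
    · exact P.central_ne hA hB hwc (e ▸ hn1.trans hn2)
  have hqe := P.four_third hB hv hp hq hv1 hp1 hpv hq1 hqv hqp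
  have hvp : v * (n * v * n⁻¹) = a * (v * p) := by
    rw [hap, ← mul_assoc, ← (P.comm ha hv).eq, mul_assoc]
  rcases P.same_comp hA ha' hb' (mul_mem hv hp) with e | e <;>
    rw [← hvp, ← hqe, ← hbq] at e
  · refine ⟨v, hv, p, hp, hv1, hp1, hpv, v, n * v * n⁻¹, Or.inl rfl, ?_, rfl, e⟩
    rcases ha' with rfl | rfl
    exacts [Or.inl (hap.trans (one_mul p)), Or.inr hap]
  · refine ⟨v, hv, p, hp, hv1, hp1, hpv, P.A.z * v, P.A.z * (n * v * n⁻¹), Or.inr rfl, ?_,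
      by rw [DihProd.conj_mul, hzf], ?_⟩
    · rcases ha' with rfl | rfl
      · exact Or.inr (by rw [hap, one_mul])
      · exact Or.inl (by rw [hap, ← mul_assoc, P.A.z_sq, one_mul])
    · have c1 : Commute v P.A.z := (P.comm P.A.z_mem hv).symm
      have c2 : Commute (v * (n * v * n⁻¹)) P.A.z := P.comm_z (mul_mem (P.le₂ hv) hw1c.1)
      rw [DihProd.conj_mul, hzf, e, c2.eq, ← mul_assoc P.A.z, P.A.z_sq, one_mul,
        mul_assoc P.A.z v, ← mul_assoc v P.A.z, c1.eq, mul_assoc P.A.z v,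
        ← mul_assoc P.A.z P.A.z, P.A.z_sq, one_mul]

theorem exists_invariant (hA : 2 ∣ P.A.h) (hB : P.B.h = 1) (hR : P.Refl) {n v : G}
    (hn : n ∈ normalizer ((S : Subgroup G) : Set G)) (hv : v ∈ P.D₂) (hnv : n * v * n⁻¹ ≠ v) :
    ∃ Q : Fact2 S, Q.Refl ∧ 2 ∣ Q.A.h ∧ Q.B.h = 1 ∧ ∃ w w' : G,
      n * w * n⁻¹ = w' ∧ n * w' * n⁻¹ = w * w' ∧ w ∈ Q.D₂ ∧ w' ∈ Q.D₂ ∧ w ≠ 1 ∧ w' ≠ 1 ∧
      ∀ x ∈ Q.D₂, x = 1 ∨ x = w ∨ x = w' ∨ x = w * w' := by
  haveI : Fact (Nat.Prime 2) := ⟨Nat.prime_two⟩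
  obtain ⟨v, hv, p, hp, hv1, hp1, hvp, w, w', hw, hw', he1, he2⟩ := P.exists_cycle hA hB hn hv hnv
  have hwd : ∃ a ∈ P.D₁, (a = 1 ∨ a = P.A.z) ∧ w = a * v := by
    rcases hw with h | h
    exacts [⟨1, one_mem _, Or.inl rfl, by rw [one_mul, h]⟩, ⟨_, P.A.z_mem, Or.inr rfl, h⟩]
  have hw'd : ∃ a ∈ P.D₁, (a = 1 ∨ a = P.A.z) ∧ w' = a * p := by
    rcases hw' with h | h
    exacts [⟨1, one_mem _, Or.inl rfl, by rw [one_mul, h]⟩, ⟨_, P.A.z_mem, Or.inr rfl, h⟩]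
  obtain ⟨a, ha, ha', hwa⟩ := hwd
  obtain ⟨b, hb, hb', hwb⟩ := hw'd
  have hsq1 : ∀ c : G, (c = 1 ∨ c = P.A.z) → c * c = 1 := by
    rintro c (rfl | rfl)
    exacts [one_mul 1, P.A.z_sq]
  have hwc : IsCentralIn S w := hwa ▸ P.central_four hB ha' hv
  have hw'c : IsCentralIn S w' := hwb ▸ P.central_four hB hb' hp
  have hws : w * w = 1 := by
    rw [hwa, P.mul_mul ha hv, hsq1 a ha', four_sq P.B hB hv, mul_one]
  have hw's : w' * w' = 1 := by
    rw [hwb, P.mul_mul hb hp, hsq1 b hb', four_sq P.B hB hp, mul_one]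
  have hne1 : ∀ {c d : G}, c ∈ P.D₁ → d ∈ P.D₂ → d ≠ 1 → c * d ∉ P.D₁ := fun hc hd hd1 h =>
    hd1 (P.eq_one ((mul_mem_cancel_left hc).1 h) hd)
  have hww : w * w' = a * b * (v * p) := by rw [hwa, hwb, P.mul_mul hb hv]
  have hvp1 : v * p ≠ 1 := fun h => hvp (by
    rw [← mul_one v, ← four_sq P.B hB hp, ← mul_assoc, h, one_mul])
  have hw1 : w ≠ 1 := fun h => hne1 ha hv hv1 (by rw [← hwa, h]; exact one_mem _)
  have hw'1 : w' ≠ 1 := fun h => hne1 hb hp hp1 (by rw [← hwb, h]; exact one_mem _)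
  have hww1 : w * w' ≠ 1 := fun h =>
    hne1 (mul_mem ha hb) (mul_mem hv hp) hvp1 (by rw [← hww, h]; exact one_mem _)
  have hcomm : Commute w w' := hw'c.2 w hwc.1
  have hwwsq : w * w' * (w * w') = 1 := by rw [hcomm.symm.mul_mul_mul_comm, hws, hw's, one_mul]
  have hwo := CfsgLib.Invol.orderOf_eq_two hws hw1
  have hw'o := CfsgLib.Invol.orderOf_eq_two hw's hw'1
  set D := closure ({w, w'} : Set G) with hD
  have hwD : w ∈ D := subset_closure (Or.inl rfl)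
  have hw'D : w' ∈ D := subset_closure (Or.inr rfl)
  have hmem : ∀ x ∈ D, x = 1 ∨ x = w ∨ x = w' ∨ x = w * w' := by
    intro x hx
    have hpw : ∀ k : ℤ, (w * w') ^ k = 1 ∨ (w * w') ^ k = w * w' := by
      intro k
      rcases Int.even_or_odd' k with ⟨m, rfl | rfl⟩
      · exact Or.inl (by rw [zpow_mul, zpow_two, hwwsq, one_zpow])
      · exact Or.inr (by rw [zpow_add, zpow_mul, zpow_two, hwwsq, one_zpow, one_mul, zpow_one])
    rcases (CfsgLib.Invol.mem_closure_pair_iff hwo hw'o).1 hx with ⟨k, rfl⟩ | ⟨k, rfl⟩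
    · rcases hpw k with h | h <;> rw [h] <;> simp
    · rcases hpw k with h | h <;> rw [h]
      · simp
      · rw [← mul_assoc, hws, one_mul]; simp
  have hDS : D ≤ (S : Subgroup G) := (closure_le _).2 (by
    rintro x (rfl | rfl)
    exacts [hwc.1, hw'c.1])
  have hdisj : ∀ x ∈ D, x ∈ P.D₁ → x = 1 := by
    intro x hx hx1
    rcases hmem x hx with h | h | h | h
    · exact h
    · exact absurd (hwa ▸ h ▸ hx1) (hne1 ha hv hv1)
    · exact absurd (hwb ▸ h ▸ hx1) (hne1 hb hp hp1)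
    · exact absurd (hww ▸ h ▸ hx1) (hne1 (mul_mem ha hb) (mul_mem hv hp) hvp1)
  have hcl : ∀ {c d : G}, c ∈ P.D₁ → c * d ∈ D → d ∈ P.D₁ ⊔ D := fun {c d} hc h => by
    have h1 := mul_mem_sup (inv_mem hc) h
    rwa [inv_mul_cancel_left] at h1
  have hp' : Cfsg.IsInternalDirectProduct P.D₁ D (S : Subgroup G) := by
    refine ⟨P.hp.1, hDS, fun c hc x hx => ?_, le_bot_iff.1 fun x hx => mem_bot.2 (hdisj x hx.2 hx.1),
      le_antisymm (sup_le P.hp.1 hDS) ?_⟩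
    · have h1 : IsCentralIn S w ∧ IsCentralIn S w' := ⟨hwc, hw'c⟩
      rcases hmem x hx with rfl | rfl | rfl | rfl
      · simp
      · exact (h1.1.2 c (P.le₁ hc)).eq
      · exact (h1.2.2 c (P.le₁ hc)).eq
      · exact ((h1.1.2 c (P.le₁ hc)).mul_right (h1.2.2 c (P.le₁ hc))).eq
    · intro x hx
      obtain ⟨c, hc, d, hd, rfl⟩ := P.split hx
      refine mul_mem (mem_sup_left hc) ?_
      have hvm : v ∈ P.D₁ ⊔ D := hcl ha (hwa ▸ hwD)
      have hpm : p ∈ P.D₁ ⊔ D := hcl hb (hwb ▸ hw'D)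
      by_cases hd1 : d = 1
      · rw [hd1]; exact one_mem _
      by_cases hdv : d = v
      · rw [hdv]; exact hvm
      by_cases hdp : d = p
      · rw [hdp]; exact hpm
      rw [P.four_third hB hv hp hd hv1 hp1 hvp hd1 hdv hdp]
      exact mul_mem hvm hpm
  have hne : w ≠ w' := fun h => hww1 (by rw [h, hw's])
  obtain ⟨eq⟩ := CfsgLib.Invol.nonempty_dihedral_equiv hwo hw'o hne
  have hord : orderOf (w * w') = 2 := CfsgLib.Invol.orderOf_eq_two hwwsq hww1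
  obtain ⟨B'⟩ := exists_data (S.2.to_le hDS) (by rw [hord]) eq
  refine ⟨⟨P.D₁, D, hp', P.A, B'⟩, hR, hA, ?_, w, w', he1, he2, hwD, hw'D, hw1, hw'1, hmem⟩
  have h1 := B'.card_eq
  rw [Nat.card_congr eq.toEquiv, DihedralGroup.nat_card, hord] at h1
  show B'.h = 1
  omega

theorem closed_B2 (hA : 2 ∣ P.A.h) (hB : P.B.h = 1) (hR : P.Refl) {n w w' : G}
    (hn : n ∈ normalizer ((S : Subgroup G) : Set G)) (he1 : n * w * n⁻¹ = w')
    (he2 : n * w' * n⁻¹ = w * w') (hw : w ∈ P.D₂) (hw' : w' ∈ P.D₂) (hw1 : w ≠ 1) (hw'1 : w' ≠ 1)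
    (hmem : ∀ x ∈ P.D₂, x = 1 ∨ x = w ∨ x = w' ∨ x = w * w') :
    Cfsg.IsStronglyClosed P.D₂ (S : Subgroup G) := by
  have he3 : n * (w * w') * n⁻¹ = w := by
    rw [DihProd.conj_mul, he1, he2, (four_comm P.B hB hw hw').eq, ← mul_assoc,
      four_sq P.B hB hw', one_mul]
  have hww1 : w * w' ≠ 1 := fun h => hw1 (by rw [← he3, h, mul_one, mul_inv_cancel])
  have hcls : ∀ v ∈ P.D₂, v ≠ 1 → IsConj v w := by
    intro v hv hv1
    have h1 : IsConj w' w := (isConj_iff.2 ⟨n, he1⟩).symm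
    rcases hmem v hv with rfl | rfl | rfl | rfl
    · exact absurd rfl hv1
    · exact IsConj.refl _
    · exact h1
    · exact ((isConj_iff.2 ⟨n, he2⟩).symm).trans h1
  -- a central element conjugate to `w` lies in the four-group
  have hcentral : ∀ {c d : G}, (c = 1 ∨ c = P.A.z) → d ∈ P.D₂ → IsConj (c * d) w →
      c = 1 ∧ d ≠ 1 := by
    intro c d hc hd h
    have hd1 : d ≠ 1 := by
      rintro rfl
      rw [mul_one] at h
      rcases hc with rfl | rfl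
      · obtain ⟨t, ht⟩ := isConj_iff.1 h
        exact hw1 (by rw [← ht]; group)
      · exact hw1 (P.eq_one ((P.z_class hA hB (P.central_four' hB hw) h.symm) ▸ P.A.z_mem) hw)
    refine ⟨hc.resolve_right fun hcz => ?_, hd1⟩
    subst hcz
    refine P.central_ne hA hB (P.central_four' hB hd) ?_
    rw [← (P.comm P.A.z_mem hd).eq]
    exact (hcls d hd hd1).trans h.symm
  have hnD : ∀ q ∈ P.D₁, n * q * n⁻¹ ∈ P.D₁ := fun q hq =>
    (P.closed_B1 hA hB hR).2 q hq n (normalizer_mem S hn (P.le₁ hq))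
  -- `n * n` fixes the two classes of reflections
  obtain ⟨u, hu⟩ : ∃ u : ℤ, n * P.A.r * n⁻¹ = P.A.r ^ u := by
    obtain ⟨u, h | h⟩ := P.A.cases _ (hnD _ P.A.rS)
    · exact ⟨u, h⟩
    · exfalso
      have h1 := P.A.refl_sq u
      rw [← h, ← DihProd.conj_mul] at h1
      exact rot_sq_ne P.A hA (conj_eq_one_iff.1 h1)
  have huodd : Odd u := by
    rw [← Int.not_even_iff_odd]
    rintro ⟨l, rfl⟩
    have hzf := P.fix_z hA hB hn
    have h1 : n * P.A.z * n⁻¹ = 1 := by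
      rw [DihFour.Data.z, ← conj_zpow, hu, ← zpow_mul, P.A.rpow_eq_one_iff]
      exact ⟨l, by ring⟩
    exact P.A.z_ne (hzf.symm.trans h1)
  obtain ⟨c, hc⟩ : ∃ c : ℤ, n * P.A.s * n⁻¹ = P.A.r ^ c * P.A.s := by
    rcases inv_cases P.A (hnD _ P.A.sS) (conj_sq P.A.s_sq) with h | h | h
    · exact absurd h (conj_ne_one (by simpa using P.A.refl_ne_one 0))
    · exact absurd (conj_inj (h.trans (P.fix_z hA hB hn).symm)) P.A.s_ne_z
    · exact h
  have hn2 : ∀ i : ℤ, n * (n * (P.A.r ^ i * P.A.s) * n⁻¹) * n⁻¹ =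
      P.A.r ^ (u * (u * i + c) + c) * P.A.s := by
    have h1 : ∀ i : ℤ, n * (P.A.r ^ i * P.A.s) * n⁻¹ = P.A.r ^ (u * i + c) * P.A.s := fun i => by
      rw [DihProd.conj_mul, ← conj_zpow, hu, hc, ← zpow_mul, ← mul_assoc, ← zpow_add]
    intro i
    rw [h1, h1]
  have hstep : ∀ (i : ℤ) {v : G}, v ∈ P.D₂ → n * (n * v * n⁻¹) * n⁻¹ ∈ P.D₂ →
      IsConj (P.A.r ^ i * P.A.s * v) w →
      IsConj (P.A.r ^ i * P.A.s * (n * (n * v * n⁻¹) * n⁻¹)) w := by
    intro i v hv hv' h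
    obtain ⟨d, hd⟩ : (2 : ℤ) ∣ u * (u * i + c) + c - i := by
      obtain ⟨k, rfl⟩ := huodd
      exact ⟨2 * k * k * i + 2 * k * i + k * c + c, by ring⟩
    refine IsConj.trans ?_ h
    set v' := n * (n * v * n⁻¹) * n⁻¹ with hv'def
    have e1 : IsConj (P.A.r ^ i * P.A.s * v') (P.A.r ^ (u * (u * i + c) + c) * P.A.s * v') :=
      isConj_iff.2 ⟨P.A.r ^ d, by
        rw [DihProd.conj_mul, P.A.rot_conj_refl, (P.comm (zpow_mem P.A.rS d) hv').eq,
          mul_inv_cancel_right, ← hd,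
          show i + (u * (u * i + c) + c - i) = u * (u * i + c) + c by ring]⟩
    have e2 : IsConj (P.A.r ^ i * P.A.s * v) (P.A.r ^ (u * (u * i + c) + c) * P.A.s * v') :=
      isConj_iff.2 ⟨n * n, by rw [← hn2, hv'def]; group⟩
    exact e1.trans e2.symm
  have hnot : ∀ (i : ℤ), ∀ v ∈ P.D₂, v ≠ 1 → ¬ IsConj (P.A.r ^ i * P.A.s * v) w := by
    intro i
    have m1 : n * (n * w * n⁻¹) * n⁻¹ = w * w' := by rw [he1, he2]
    have m2 : n * (n * (w * w') * n⁻¹) * n⁻¹ = w' := by rw [he3, he1]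
    have m3 : n * (n * w' * n⁻¹) * n⁻¹ = w := by rw [he2, he3]
    have hwwD := mul_mem hw hw'
    have t1 : IsConj (P.A.r ^ i * P.A.s * w) w → IsConj (P.A.r ^ i * P.A.s * (w * w')) w := by
      intro h; have := hstep i hw (by rw [m1]; exact hwwD) h; rwa [m1] at this
    have t2 : IsConj (P.A.r ^ i * P.A.s * (w * w')) w → IsConj (P.A.r ^ i * P.A.s * w') w := by
      intro h; have := hstep i hwwD (by rw [m2]; exact hw') h; rwa [m2] at this
    have t3 : IsConj (P.A.r ^ i * P.A.s * w') w → IsConj (P.A.r ^ i * P.A.s * w) w := by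
      intro h; have := hstep i hw' (by rw [m3]; exact hw) h; rwa [m3] at this
    intro v hv hv1 hcon
    have hall : IsConj (P.A.r ^ i * P.A.s * w) w ∧ IsConj (P.A.r ^ i * P.A.s * w') w ∧
        IsConj (P.A.r ^ i * P.A.s * (w * w')) w := by
      rcases hmem v hv with rfl | rfl | rfl | rfl
      · exact absurd rfl hv1
      · exact ⟨hcon, t2 (t1 hcon), t1 hcon⟩
      · exact ⟨t3 hcon, hcon, t1 (t3 hcon)⟩
      · exact ⟨t3 (t2 hcon), t2 hcon, hcon⟩
    obtain ⟨g, hg, hgC⟩ := to_central S P.central_z₁ (hR i)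
    have himg : ∀ {x : G}, x ∈ P.D₂ → x ≠ 1 → IsConj (P.A.r ^ i * P.A.s * x) w →
        ∃ (j : ℤ), ∃ d ∈ P.D₂, g * x * g⁻¹ = P.A.r ^ j * P.A.s * d := by
      intro x hx hx1 h
      obtain ⟨c, hc, d, hd, hcd⟩ := P.split (hgC x (P.le₂ hx) (P.comm (refl_mem P.A i) hx).symm)
      have hcc := (P.sq_eq_one hc hd (by rw [← hcd]; exact conj_sq (four_sq P.B hB hx))).1
      have hcase : (c = 1 ∨ c = P.A.z) → False := by
        intro hc'
        obtain ⟨rfl, hd1⟩ := hcentral hc' hd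
          ((isConj_iff.2 ⟨g, hcd⟩).symm.trans (hcls x hx hx1))
        have h2 : IsConj (P.A.z * d) w := (isConj_iff.2 ⟨g, by
          rw [DihProd.conj_mul, hg, hcd, one_mul]⟩ :
            IsConj (P.A.r ^ i * P.A.s * x) (P.A.z * d)).symm.trans h
        exact P.A.z_ne (hcentral (Or.inr rfl) hd h2).1
      rcases inv_cases P.A hc hcc with h1 | h1 | ⟨j, rfl⟩
      · exact (hcase (Or.inl h1)).elim
      · exact (hcase (Or.inr h1)).elim
      · exact ⟨j, d, hd, hcd⟩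
    obtain ⟨j₁, d₁, hd₁, h1⟩ := himg hw hw1 hall.1
    obtain ⟨j₂, d₂, hd₂, h2⟩ := himg hw' hw'1 hall.2.1
    obtain ⟨j₃, d₃, hd₃, h3⟩ := himg hwwD hww1 hall.2.2
    rw [DihProd.conj_mul, h1, h2, P.mul_mul (refl_mem P.A j₂) hd₁, P.A.refl_mul] at h3
    exact P.A.refl_not_mem j₃ ((P.uniq (zpow_mem P.A.rS _) (refl_mem P.A j₃) (mul_mem hd₁ hd₂)
      hd₃ h3).1 ▸ zpow_mem (mem_zpowers P.A.r) _)
  refine ⟨P.hp.2.1, fun x hx g hg => ?_⟩
  by_cases hx1 : x = 1
  · subst hx1; simpa using one_mem P.D₂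
  obtain ⟨c, hc, d, hd, hcd⟩ := P.split hg
  have hcc := (P.sq_eq_one hc hd (by rw [← hcd]; exact conj_sq (four_sq P.B hB hx))).1
  have hyw : IsConj (c * d) w := (isConj_iff.2 ⟨g, hcd⟩).symm.trans (hcls x hx hx1)
  rcases inv_cases P.A hc hcc with h | h | ⟨j, rfl⟩
  · rw [hcd, h, one_mul]; exact hd
  · exact absurd ((hcentral (Or.inr h) hd hyw).1.symm.trans h) (Ne.symm P.A.z_ne)
  · exfalso
    by_cases hd1 : d = 1
    · subst hd1
      rw [mul_one] at hyw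
      have h1 := P.z_class hA hB (P.central_four' hB hw) (hyw.symm.trans (hR j))
      exact hw1 (P.eq_one (h1 ▸ P.A.z_mem) hw)
    · exact hnot j d hd hd1 hyw

/-- A four-group factor: a strongly closed factorisation. -/
theorem main_B (hno : ∀ N : Subgroup G, N.Normal → N.index ≠ 2) (hA : 2 ∣ P.A.h)
    (hB : P.B.h = 1) :
    ∃ Q : Fact2 S, Cfsg.IsStronglyClosed Q.D₁ (S : Subgroup G) ∧
      Cfsg.IsStronglyClosed Q.D₂ (S : Subgroup G) := by
  obtain ⟨e₀, he₀, h₀⟩ := P.exists_eB hno hA hB 0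
  obtain ⟨e₁, he₁, h₁⟩ := P.exists_eB hno hA hB 1
  rw [zpow_zero, one_mul] at h₀
  rw [zpow_one] at h₁
  obtain ⟨Q, hR, -, hQA, hQB, -⟩ := P.exists_change hA he₀ he₁
    (fun q hq => four_comm P.B hB hq he₀) (fun q hq => four_comm P.B hB hq he₁)
    (four_sq P.B hB he₀) (four_sq P.B hB he₁) h₀ h₁
  have hA' : 2 ∣ Q.A.h := hQA ▸ hA
  have hB' : Q.B.h = 1 := hQB.trans hB
  obtain ⟨n, hn, v, hv, hnv⟩ := Q.exists_moving hno hA' hB' hR
  obtain ⟨R, hRR, hRA, hRB, w, w', he1, he2, hw, hw', hw1, hw'1, hmem⟩ :=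
    Q.exists_invariant hA' hB' hR hn hv hnv
  exact ⟨R, R.closed_B1 hRA hRB hRR, R.closed_B2 hRA hRB hRR hn he1 he2 hw hw' hw1 hw'1 hmem⟩

end Fact2

end CfsgLib.DihProd
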