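import Cfsg.Agent.Transfer.Basic
import Cfsg.Agent.Transfer.Alperin
import Cfsg.Agent.Invol.DihedralFusion

/-!
Sylow-local tools for fusion in a group with a dihedral times dihedral Sylow 2-subgroup: extremal
conjugates, Burnside fusion of central elements, and facts on a single dihedral factor.
-/

set_option autoImplicit false
set_option linter.unusedSectionVars false
set_option linter.deprecated false
set_option linter.style.haveILetI false

namespace CfsgLib.DihProd

open Subgroup Pointwise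

variable {G : Type*} [Group G]

theorem conj_eq_iff {g x y : G} : g * x * g⁻¹ = y ↔ x = g⁻¹ * y * g := by
  constructor <;> rintro rfl <;> group

theorem conj_inj {g x y : G} (h : g * x * g⁻¹ = g * y * g⁻¹) : x = y :=
  mul_left_cancel (mul_right_cancel h)

theorem commute_conj {x y : G} (g : G) (h : Commute x y) :
    Commute (g * x * g⁻¹) (g * y * g⁻¹) := by
  show g * x * g⁻¹ * (g * y * g⁻¹) = g * y * g⁻¹ * (g * x * g⁻¹)
  calc _ = g * (x * y) * g⁻¹ := by group
    _ = g * (y * x) * g⁻¹ := by rw [h.eq]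
    _ = _ := by group

theorem conj_mul (g x y : G) : g * (x * y) * g⁻¹ = g * x * g⁻¹ * (g * y * g⁻¹) := by group

theorem conj_ne_one {g x : G} (h : x ≠ 1) : g * x * g⁻¹ ≠ 1 := fun h1 => h (conj_eq_one_iff.1 h1)

theorem conj_sq {g x : G} (h : x * x = 1) : g * x * g⁻¹ * (g * x * g⁻¹) = 1 := by
  rw [← conj_mul, h, mul_one, mul_inv_cancel]

variable (S : Sylow 2 G)

/-- The element is central in the Sylow subgroup. -/
def IsCentralIn (x : G) : Prop := x ∈ (S : Subgroup G) ∧ ∀ q ∈ (S : Subgroup G), Commute q x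

variable [Finite G]

/-- An element whose centralizer in `S` is as large as possible within its class controls the
fusion into it. -/
theorem conj_into {u : G} (hu : u ∈ (S : Subgroup G))
    (hmax : ∀ u' ∈ (S : Subgroup G), IsConj u u' →
      Nat.card ↥((S : Subgroup G) ⊓ centralizer {u'}) ≤ Nat.card ↥((S : Subgroup G) ⊓ centralizer {u}))
    {y : G} (hy : IsConj y u) :
    ∃ g : G, g * y * g⁻¹ = u ∧ ∀ q ∈ (S : Subgroup G), Commute q y → g * q * g⁻¹ ∈ (S : Subgroup G) := by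
  haveI : Fact (Nat.Prime 2) := ⟨Nat.prime_two⟩
  set C := centralizer ({u} : Set G)
  set T := (S : Subgroup G) ⊓ C with hT
  have hTC : T ≤ C := inf_le_right
  obtain ⟨R, hR⟩ := ((S.2.to_le (inf_le_left : T ≤ _)).comap_subtype (K := C)).exists_le_sylow
  set R' := (R : Subgroup C).map C.subtype with hR'
  have hTR : T ≤ R' := by
    rw [← map_subgroupOf_eq_of_le hTC]
    exact map_mono hR
  obtain ⟨b, -, hb⟩ := CfsgLib.Fusion.exists_conj_le_of_sylow_relIndex (H := (⊤ : Subgroup G)) le_top S.2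
    (by rw [relIndex_top_right]; exact S.not_dvd_index) (R.2.map C.subtype) le_top
  have hu' : b * u * b⁻¹ ∈ (S : Subgroup G) := by
    refine hb ?_
    rw [CfsgLib.SZ.mem_conj_smul]
    rw [show b⁻¹ * (b * u * b⁻¹) * b = u by group]
    exact hTR ⟨hu, mem_centralizer_singleton_iff.2 rfl⟩
  have hle : MulAut.conj b • R' ≤ (S : Subgroup G) ⊓ centralizer {b * u * b⁻¹} := by
    refine le_inf hb fun z hz => ?_
    rw [CfsgLib.SZ.mem_conj_smul] at hz
    have h1 : Commute (b⁻¹ * z * b) u := mem_centralizer_singleton_iff.1 (map_subtype_le _ hz)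
    have h2 := commute_conj b h1
    rw [show b * (b⁻¹ * z * b) * b⁻¹ = z by group] at h2
    exact mem_centralizer_singleton_iff.2 h2
  have hcard : Nat.card R' ≤ Nat.card T := by
    have h1 := Nat.card_le_card_of_injective _ (inclusion_injective hle)
    rw [CfsgLib.SZ.card_conj_smul] at h1
    exact h1.trans (hmax _ hu' (isConj_iff.2 ⟨b, rfl⟩))
  have hTR' : T = R' := eq_of_le_of_card_ge hTR hcard
  have hidx : ¬ 2 ∣ T.relIndex C := by
    rw [hTR', relIndex, show R'.subgroupOf C = (R : Subgroup C) from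
      comap_map_eq_self_of_injective (subtype_injective _) _]
    exact R.not_dvd_index
  obtain ⟨a, ha⟩ := isConj_iff.1 hy
  set U := ((S : Subgroup G) ⊓ centralizer {y}).map (MulAut.conj a).toMonoidHom
  have hUC : U ≤ C := by
    rintro _ ⟨z, hz, rfl⟩
    have h1 : Commute z y := mem_centralizer_singleton_iff.1 hz.2
    have h2 := commute_conj a h1
    rw [ha] at h2
    exact mem_centralizer_singleton_iff.2 h2
  obtain ⟨c, hc, hcU⟩ := CfsgLib.Fusion.exists_conj_le_of_sylow_relIndex hTC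
    (S.2.to_le inf_le_left) hidx ((S.2.to_le inf_le_left).map _) hUC
  refine ⟨c * a, ?_, fun q hq hqy => ?_⟩
  · have h1 : c * u = u * c := mem_centralizer_singleton_iff.1 hc
    rw [show c * a * y * (c * a)⁻¹ = c * (a * y * a⁻¹) * c⁻¹ by group, ha, h1, mul_inv_cancel_right]
  · have h1 : c * (a * q * a⁻¹) * c⁻¹ ∈ T := hcU (by
      rw [CfsgLib.SZ.mem_conj_smul, show c⁻¹ * (c * (a * q * a⁻¹) * c⁻¹) * c = a * q * a⁻¹ by group]
      exact ⟨q, ⟨hq, mem_centralizer_singleton_iff.2 hqy⟩, rfl⟩)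
    rw [show c * a * q * (c * a)⁻¹ = c * (a * q * a⁻¹) * c⁻¹ by group]
    exact h1.1

/-- Extremal conjugates exist. -/
theorem exists_extremal {x : G} (hx : x ∈ (S : Subgroup G)) :
    ∃ u ∈ (S : Subgroup G), IsConj x u ∧ ∀ y : G, IsConj y u →
      ∃ g : G, g * y * g⁻¹ = u ∧ ∀ q ∈ (S : Subgroup G), Commute q y → g * q * g⁻¹ ∈ (S : Subgroup G) := by
  classical
  obtain ⟨u, ⟨hu, hxu⟩, hmax⟩ := Set.exists_max_image {u | u ∈ (S : Subgroup G) ∧ IsConj x u}
    (fun u => Nat.card ↥((S : Subgroup G) ⊓ centralizer {u})) (Set.toFinite _) ⟨x, hx, IsConj.refl x⟩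
  exact ⟨u, hu, hxu, fun y hy => conj_into S hu (fun u' hu' h => hmax u' ⟨hu', hxu.trans h⟩) hy⟩

theorem to_central {x w : G} (hw : IsCentralIn S w) (hxw : IsConj x w) :
    ∃ g : G, g * x * g⁻¹ = w ∧ ∀ q ∈ (S : Subgroup G), Commute q x → g * q * g⁻¹ ∈ (S : Subgroup G) :=
  conj_into S hw.1 (fun u' _ _ => Nat.card_le_card_of_injective _ (inclusion_injective
    (show (S : Subgroup G) ⊓ centralizer {u'} ≤ (S : Subgroup G) ⊓ centralizer {w} from
      fun q hq => ⟨hq.1, mem_centralizer_singleton_iff.2 (hw.2 q hq.1)⟩))) hxw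

/-- Burnside. -/
theorem burnside {x y : G} (hx : IsCentralIn S x) (hy : IsCentralIn S y) (h : IsConj x y) :
    ∃ n ∈ normalizer ((S : Subgroup G) : Set G), n * x * n⁻¹ = y := by
  haveI : Fact (Nat.Prime 2) := ⟨Nat.prime_two⟩
  obtain ⟨g, hg⟩ := isConj_iff.1 h
  have key : ∀ {z : G}, IsCentralIn S z → ∀ q ∈ S, (fun t => q * t * q⁻¹) '' ({z} : Set G) = {z} :=
    fun hz q hq => by rw [Set.image_singleton, (hz.2 q hq).eq, mul_inv_cancel_right]
  obtain ⟨n, hn, he⟩ := CfsgLib.TransferBasic.fusion_normal_subsets S {x} {y} (key hx) (key hy) g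
    (by rw [Set.image_singleton, hg])
  exact ⟨n, hn, by simpa [Set.image_singleton] using he⟩

theorem normalizer_mem {n q : G} (hn : n ∈ normalizer ((S : Subgroup G) : Set G))
    (hq : q ∈ (S : Subgroup G)) : n * q * n⁻¹ ∈ (S : Subgroup G) :=
  (mem_normalizer_iff.1 hn q).1 hq

theorem IsCentralIn.conj {n x : G} (hn : n ∈ normalizer ((S : Subgroup G) : Set G))
    (hx : IsCentralIn S x) : IsCentralIn S (n * x * n⁻¹) := by
  refine ⟨normalizer_mem S hn hx.1, fun q hq => ?_⟩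
  have h := commute_conj n (hx.2 (n⁻¹ * q * n) (by simpa using normalizer_mem S (inv_mem hn) hq))
  rwa [show n * (n⁻¹ * q * n) * n⁻¹ = q by group] at h

theorem IsCentralIn.mul {x y : G} (hx : IsCentralIn S x) (hy : IsCentralIn S y) :
    IsCentralIn S (x * y) :=
  ⟨mul_mem hx.1 hy.1, fun q hq => (hx.2 q hq).mul_right (hy.2 q hq)⟩

/-- `N(S)` acts on the centre as a group of odd order. -/
theorem fix_of_sq_fix {n x : G} (hn : n ∈ normalizer ((S : Subgroup G) : Set G))
    (hx : IsCentralIn S x) (h : n * (n * x * n⁻¹) * n⁻¹ = x) : n * x * n⁻¹ = x := by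
  haveI : Fact (Nat.Prime 2) := ⟨Nat.prime_two⟩
  set N := normalizer ((S : Subgroup G) : Set G)
  have hle : (S : Subgroup G) ≤ N := le_normalizer
  haveI : ((S : Subgroup G).subgroupOf N).Normal :=
    (normal_subgroupOf_iff_le_normalizer hle).2 le_rfl
  have hk : ¬ 2 ∣ ((S : Subgroup G).subgroupOf N).index :=
    fun h => S.not_dvd_index (h.trans (relIndex_dvd_index_of_le hle))
  obtain ⟨j, hj⟩ : Odd ((S : Subgroup G).subgroupOf N).index := Nat.odd_iff.2 (by omega)
  have hmem : n ^ (2 * j + 1) ∈ (S : Subgroup G) := by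
    have := pow_index_mem ((S : Subgroup G).subgroupOf N) (⟨n, hn⟩ : N)
    rw [hj, mem_subgroupOf] at this
    simpa using this
  have h2 : Commute (n * n) x := by
    show n * n * x = x * (n * n)
    calc n * n * x = n * (n * x * n⁻¹) * n⁻¹ * (n * n) := by group
      _ = _ := by rw [h]
  have h3 : Commute ((n * n) ^ j) x := h2.pow_left j
  have h4 : Commute (n ^ (2 * j + 1)) x := hx.2 _ hmem
  have h5 : n = n ^ (2 * j + 1) * ((n * n) ^ j)⁻¹ := by
    rw [← pow_two, ← pow_mul, pow_succ', mul_inv_cancel_right]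
  have h6 : Commute n x := by
    rw [h5]; exact h4.mul_left h3.inv_left
  rw [h6.eq, mul_inv_cancel_right]

/-! ### One dihedral factor -/

section Factor

open CfsgLib.DihFour

variable {D : Subgroup G} (A : Data D)

theorem refl_mem (i : ℤ) : A.r ^ i * A.s ∈ D := mul_mem (zpow_mem A.rS i) A.sS

theorem inv_cases {a : G} (ha : a ∈ D) (h : a * a = 1) :
    a = 1 ∨ a = A.z ∨ ∃ i : ℤ, a = A.r ^ i * A.s :=
  (eq_or_ne a 1).imp_right fun h1 => A.invol_cases ha h h1

theorem sq_cases {a : G} (ha : a ∈ D) (h : a * a * (a * a) = 1) : a * a = 1 ∨ a * a = A.z := by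
  obtain ⟨i, rfl | rfl⟩ := A.cases a ha
  · rw [← zpow_add] at h ⊢
    exact A.rpow_inv_of_sq h
  · exact Or.inl (A.refl_sq i)

theorem rot_sq_ne (hA : 2 ∣ A.h) : A.r * A.r ≠ 1 := by
  intro h
  have h1 := A.hr
  have h2 : orderOf A.r ∣ 2 := orderOf_dvd_of_pow_eq_one (by rw [sq, h])
  have := Nat.le_of_dvd two_pos h2
  have := Nat.le_of_dvd A.h_pos hA
  omega

theorem comm_refl_rot {i j : ℤ} (h : Commute (A.r ^ i) (A.r ^ j * A.s)) :
    A.r ^ i * A.r ^ i = 1 := by
  have h1 : A.r ^ (i + j) * A.s = A.r ^ (j - i) * A.s := by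
    have := h.eq
    rwa [mul_assoc (A.r ^ j), A.s_mul_rpow, ← mul_assoc, ← mul_assoc, ← zpow_add, ← zpow_add,
      ← sub_eq_add_neg] at this
  rw [← zpow_add, A.rpow_eq_one_iff]
  have h2 := mul_right_cancel h1
  rw [← mul_inv_eq_one, ← zpow_neg, ← zpow_add, A.rpow_eq_one_iff] at h2
  convert h2 using 1
  ring

theorem central_cases (hA : 2 ∣ A.h) {a : G} (ha : a ∈ D) (h : ∀ q ∈ D, Commute q a) :
    a = 1 ∨ a = A.z := by
  obtain ⟨i, rfl | rfl⟩ := A.cases a ha
  · refine A.rpow_inv_of_sq (comm_refl_rot A (j := 0) ?_)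
    rw [zpow_zero, one_mul]
    exact (h _ A.sS).symm
  · refine absurd (comm_refl_rot A (i := 1) (j := i) ?_) ?_
    · rw [zpow_one]; exact h _ A.rS
    · rw [zpow_one]; exact rot_sq_ne A hA

theorem root_not_comm {a q : G} {i : ℤ} (ha : a = A.r ^ i * A.s) (hq : q ∈ D) (hq2 : q * q = A.z) :
    ¬ Commute q a := by
  subst ha
  intro h
  obtain ⟨l, rfl | rfl⟩ := A.cases q hq
  · exact A.z_ne (hq2.symm.trans (comm_refl_rot A h))
  · exact A.z_ne (hq2.symm.trans (A.refl_sq l))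

theorem exists_root (hA : 2 ∣ A.h) : ∃ l : ℤ, 2 * l = (A.h : ℤ) ∧ A.r ^ l * A.r ^ l = A.z := by
  obtain ⟨l, hl⟩ := hA
  refine ⟨l, by omega, ?_⟩
  rw [← zpow_add, DihFour.Data.z]
  congr 1
  omega

theorem refl_z_conj (hA : 2 ∣ A.h) (i : ℤ) :
    ∃ t ∈ D, t * (A.r ^ i * A.s) * t⁻¹ = A.r ^ i * A.s * A.z := by
  obtain ⟨l, hl, -⟩ := exists_root A hA
  refine ⟨A.r ^ l, zpow_mem A.rS l, ?_⟩
  rw [A.rot_conj_refl, ← (A.z_comm (refl_mem A i)).eq, DihFour.Data.z, ← mul_assoc, ← zpow_add, hl,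
    add_comm]

theorem refl_pair_not_comm (hA : 2 ∣ A.h) : ¬ Commute A.s (A.r * A.s) := by
  intro h
  have h1 : A.r ^ (0 : ℤ) * A.s * (A.r ^ (1 : ℤ) * A.s) = A.r ^ (1 : ℤ) * A.s * (A.r ^ (0 : ℤ) * A.s) := by
    simpa using h.eq
  rw [A.refl_mul, A.refl_mul, ← mul_inv_eq_one, ← zpow_neg, ← zpow_add] at h1
  have h2 : A.r ^ (-2 : ℤ) = 1 := by
    convert h1 using 2
    norm_num
  rw [zpow_neg, inv_eq_one] at h2
  exact rot_sq_ne A hA (by rw [← sq]; exact_mod_cast h2)

theorem four_sq (hA : A.h = 1) {a : G} (ha : a ∈ D) : a * a = 1 := by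
  obtain ⟨i, rfl | rfl⟩ := A.cases a ha
  · rw [← zpow_add, A.rpow_eq_one_iff, hA]; exact ⟨i, by push_cast; ring⟩
  · exact A.refl_sq i

theorem four_comm (hA : A.h = 1) {a b : G} (ha : a ∈ D) (hb : b ∈ D) : Commute a b := by
  have hi : ∀ {c : G}, c ∈ D → c⁻¹ = c := fun hc => inv_eq_of_mul_eq_one_right (four_sq A hA hc)
  show a * b = b * a
  calc a * b = (a * b)⁻¹ := (hi (mul_mem ha hb)).symm
    _ = b * a := by rw [mul_inv_rev, hi ha, hi hb]

/-- A subgroup map of the dihedral group is determined by the reflections. -/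
theorem map_mem_of_refl {H : Subgroup G} {g : G}
    (h : ∀ i : ℤ, g * (A.r ^ i * A.s) * g⁻¹ ∈ H) {q : G} (hq : q ∈ D) : g * q * g⁻¹ ∈ H := by
  have h0 : g * A.s * g⁻¹ ∈ H := by simpa using h 0
  obtain ⟨i, rfl | rfl⟩ := A.cases q hq
  · rw [show A.r ^ i = A.r ^ i * A.s * A.s by rw [mul_assoc, A.s_sq, mul_one], conj_mul]
    exact mul_mem (h i) h0
  · exact h i

end Factor

end CfsgLib.DihProd
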