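import Cfsg.Agent.DihProd.CaseA
import Cfsg.Agent.DihProd.CaseB

/-!
A Sylow 2-subgroup which is a nonabelian product of two dihedral groups, without normal subgroup
of index two, has a factorisation into strongly closed dihedral factors.
-/

set_option autoImplicit false
set_option linter.unusedSectionVars false
set_option linter.deprecated false
set_option linter.style.haveILetI false
set_option linter.unusedVariables false

namespace CfsgLib.DihProd

open Subgroup CfsgLib.DihFour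

variable {G : Type*} [Group G] [Finite G]

theorem data_equiv {D : Subgroup G} (A : Data D) :
    ∃ m : ℕ, 2 ≤ m ∧ Nonempty (D ≃* DihedralGroup m) := by
  have hso := A.hs
  have hto : orderOf (A.r * A.s) = 2 := by simpa using A.refl_orderOf 1
  have hne : A.r * A.s ≠ A.s := fun h => by
    have h1 := congrArg orderOf (mul_eq_right.1 h)
    rw [A.hr, orderOf_one] at h1
    omega
  have hprod : A.r * A.s * A.s = A.r := by rw [mul_assoc, A.s_sq, mul_one]
  have hD : closure ({A.r * A.s, A.s} : Set G) = D := by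
    refine le_antisymm ((closure_le _).2 ?_) fun g hg => ?_
    · rintro x (rfl | rfl)
      exacts [mul_mem A.rS A.sS, A.sS]
    · have hs : A.s ∈ closure ({A.r * A.s, A.s} : Set G) := subset_closure (Or.inr rfl)
      have hr : A.r ∈ closure ({A.r * A.s, A.s} : Set G) := by
        have h1 := mul_mem (subset_closure (Or.inl rfl) :
          A.r * A.s ∈ closure ({A.r * A.s, A.s} : Set G)) hs
        rwa [hprod] at h1
      obtain ⟨i, rfl | rfl⟩ := A.cases g hg
      · exact zpow_mem hr i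
      · exact mul_mem (zpow_mem hr i) hs
  obtain ⟨eq⟩ := CfsgLib.Invol.nonempty_dihedral_equiv hto hso hne
  refine ⟨orderOf (A.r * A.s * A.s), ?_, ⟨(MulEquiv.subgroupCongr hD.symm).trans eq⟩⟩
  rw [hprod, A.hr]
  have := A.h_pos
  omega

theorem h_cases {D : Subgroup G} (A : Data D) : A.h = 1 ∨ 2 ∣ A.h := by
  rcases hk : A.k with _ | k
  · exact Or.inl (by rw [A.hh, hk, pow_zero])
  · exact Or.inr (by rw [A.hh, hk]; exact dvd_pow_self 2 k.succ_ne_zero)

/-- The main fusion theorem. -/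
theorem exists_stronglyClosed (hno : ∀ N : Subgroup G, N.Normal → N.index ≠ 2) (S : Sylow 2 G)
    (hS : ¬ IsMulCommutative ↥(S : Subgroup G)) (D₁ D₂ : Subgroup G)
    (hD : Cfsg.IsInternalDirectProduct D₁ D₂ (S : Subgroup G))
    (hD₁ : ∃ m : ℕ, 2 ≤ m ∧ Nonempty (↥D₁ ≃* DihedralGroup m))
    (hD₂ : ∃ m : ℕ, 2 ≤ m ∧ Nonempty (↥D₂ ≃* DihedralGroup m)) :
    ∃ S₁ S₂ : Subgroup G, Cfsg.IsInternalDirectProduct S₁ S₂ (S : Subgroup G) ∧
      (∃ m : ℕ, 2 ≤ m ∧ Nonempty (↥S₁ ≃* DihedralGroup m)) ∧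
      (∃ m : ℕ, 2 ≤ m ∧ Nonempty (↥S₂ ≃* DihedralGroup m)) ∧
      Cfsg.IsStronglyClosed S₁ (S : Subgroup G) ∧ Cfsg.IsStronglyClosed S₂ (S : Subgroup G) := by
  obtain ⟨m₁, hm₁, ⟨eq₁⟩⟩ := hD₁
  obtain ⟨m₂, hm₂, ⟨eq₂⟩⟩ := hD₂
  obtain ⟨A⟩ := exists_data (S.2.to_le hD.1) hm₁ eq₁
  obtain ⟨B⟩ := exists_data (S.2.to_le hD.2.1) hm₂ eq₂
  let P : Fact2 S := ⟨D₁, D₂, hD, A, B⟩
  suffices h : ∃ Q : Fact2 S, Cfsg.IsStronglyClosed Q.D₁ (S : Subgroup G) ∧
      Cfsg.IsStronglyClosed Q.D₂ (S : Subgroup G) by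
    obtain ⟨Q, h₁, h₂⟩ := h
    exact ⟨Q.D₁, Q.D₂, Q.hp, data_equiv Q.A, data_equiv Q.B, h₁, h₂⟩
  rcases h_cases A with hA | hA <;> rcases h_cases B with hB | hB
  · refine absurd ?_ hS
    refine ⟨⟨fun x y => Subtype.ext ?_⟩⟩
    obtain ⟨a, ha, b, hb, hx⟩ := P.split x.2
    obtain ⟨c, hc, d, hd, hy⟩ := P.split y.2
    show (x : G) * y = y * x
    rw [hx, hy]
    exact ((P.comm_iff ha hc hb hd).2 ⟨four_comm A hA ha hc, four_comm B hB hb hd⟩).eq
  · exact P.swap.main_B hno hB hA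
  · exact P.main_B hno hA hB
  · exact P.main_A hno hA hB

end CfsgLib.DihProd
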