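import Cfsg.Agent.DihProd.Basic

/-!
Thompson transfer for a dihedral direct factor.
-/

set_option autoImplicit false
set_option linter.unusedSectionVars false
set_option linter.deprecated false
set_option linter.style.haveILetI false
set_option linter.unusedVariables false

namespace CfsgLib.DihProd

open Subgroup CfsgLib.DihFour

variable {G : Type*} [Group G] [Finite G] {S : Sylow 2 G}

namespace Fact2

variable (P : Fact2 S)

theorem mem_sup_iff {K₁ K₂ : Subgroup G} (h₁ : K₁ ≤ P.D₁) (h₂ : K₂ ≤ P.D₂) {x : G} :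
    x ∈ K₁ ⊔ K₂ ↔ ∃ a ∈ K₁, ∃ b ∈ K₂, x = a * b := by
  refine ⟨fun hx => ?_, ?_⟩
  · let M : Subgroup G :=
      { carrier := {y | ∃ a ∈ K₁, ∃ b ∈ K₂, y = a * b}
        one_mem' := ⟨1, one_mem _, 1, one_mem _, (one_mul 1).symm⟩
        mul_mem' := by
          rintro _ _ ⟨a, ha, b, hb, rfl⟩ ⟨a', ha', b', hb', rfl⟩
          exact ⟨a * a', mul_mem ha ha', b * b', mul_mem hb hb', P.mul_mul (h₁ ha') (h₂ hb)⟩
        inv_mem' := by
          rintro _ ⟨a, ha, b, hb, rfl⟩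
          exact ⟨a⁻¹, inv_mem ha, b⁻¹, inv_mem hb, by
            rw [mul_inv_rev, (P.comm (h₁ (inv_mem ha)) (h₂ (inv_mem hb))).eq]⟩ }
    exact (sup_le (fun a ha => ⟨a, ha, 1, one_mem _, (mul_one a).symm⟩)
      (fun b hb => ⟨1, one_mem _, b, hb, (one_mul b).symm⟩) : K₁ ⊔ K₂ ≤ M) hx
  · rintro ⟨a, ha, b, hb, rfl⟩
    exact mul_mem_sup ha hb

theorem card_sup {K₁ K₂ : Subgroup G} (h₁ : K₁ ≤ P.D₁) (h₂ : K₂ ≤ P.D₂) :
    Nat.card ↥(K₁ ⊔ K₂) = Nat.card K₁ * Nat.card K₂ := by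
  rw [← Nat.card_prod]
  refine (Nat.card_congr (Equiv.ofBijective
    (fun q : K₁ × K₂ => (⟨q.1 * q.2, mul_mem_sup q.1.2 q.2.2⟩ : ↥(K₁ ⊔ K₂))) ⟨?_, ?_⟩)).symm
  · intro u v huv
    have h := P.uniq (h₁ u.1.2) (h₁ v.1.2) (h₂ u.2.2) (h₂ v.2.2) (congrArg Subtype.val huv)
    exact Prod.ext (Subtype.ext h.1) (Subtype.ext h.2)
  · rintro ⟨x, hx⟩
    obtain ⟨a, ha, b, hb, rfl⟩ := (P.mem_sup_iff h₁ h₂).1 hx
    exact ⟨(⟨a, ha⟩, ⟨b, hb⟩), rfl⟩

theorem rot_le : zpowers P.A.r ≤ P.D₁ := zpowers_le.2 P.A.rS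

/-- The index two subgroup `⟨r⟩ × D₂` of `S`. -/
theorem relIndex_rot_sup : (zpowers P.A.r ⊔ P.D₂).relIndex (S : Subgroup G) = 2 := by
  have hle : zpowers P.A.r ⊔ P.D₂ ≤ (S : Subgroup G) :=
    sup_le (P.rot_le.trans P.hp.1) P.hp.2.1
  have e := index_mul_card ((zpowers P.A.r ⊔ P.D₂).subgroupOf (S : Subgroup G))
  rw [Nat.card_congr (subgroupOfEquivOfLe hle).toEquiv, P.card_sup P.rot_le le_rfl,
    Nat.card_zpowers, P.A.hr] at e
  have e2 : Nat.card (S : Subgroup G) = 4 * P.A.h * Nat.card P.D₂ := by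
    rw [← P.A.card_eq, ← P.card_sup le_rfl le_rfl, P.hp.2.2.2.2]
  rw [relIndex]
  refine Nat.eq_of_mul_eq_mul_right (show 0 < 2 * P.A.h * Nat.card P.D₂ from
    Nat.mul_pos (by have := P.A.h_pos; omega) Nat.card_pos) ?_
  rw [e, e2]
  ring

/-- Without a normal subgroup of index two every involution of `S` is conjugate to one without
reflection component. -/
theorem exists_conj_rot (hno : ∀ N : Subgroup G, N.Normal → N.index ≠ 2) {x : G} (hx : x * x = 1) :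
    ∃ g : G, ∃ a ∈ P.D₁, ∃ b ∈ P.D₂, g * x * g⁻¹ = a * b ∧ (a = 1 ∨ a = P.A.z) ∧ b * b = 1 := by
  have hodd : Odd (S : Subgroup G).index := by
    haveI : Fact (Nat.Prime 2) := ⟨Nat.prime_two⟩
    have := S.not_dvd_index
    exact Nat.odd_iff.2 (by omega)
  rcases CfsgLib.ThompsonTransfer.thompson_transfer (S : Subgroup G) (zpowers P.A.r ⊔ P.D₂) hodd
    P.relIndex_rot_sup hx with ⟨M, hM, hM2, -⟩ | ⟨g, hg⟩
  · exact absurd hM2 (hno M hM)
  obtain ⟨a, ha, b, hb, hab⟩ := (P.mem_sup_iff P.rot_le le_rfl).1 hg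
  have h := P.sq_eq_one (P.rot_le ha) hb (by rw [← hab]; exact conj_sq hx)
  obtain ⟨i, rfl⟩ := mem_zpowers_iff.1 ha
  exact ⟨g, _, P.rot_le ha, b, hb, hab, P.A.rpow_inv_of_sq h.1, h.2⟩

end Fact2

end CfsgLib.DihProd
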